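import Cfsg.Agent.H428.OT.Tab
import Cfsg.Agent.BpExc.TorChev

/-!
# `C_G(T) = T` (helper428), for S2539

* `centralizer_tor` (abstract, root group data with coordinates);
* `exists_gen`: a generator of `Kˣ`; `sep` : distinct roots have distinct characters; `chi_ne` ;
* `mem_tor_of_comm` : `x ∈ D.group K` commuting with `T` lies in `T` (`8 ≤ |K|`).
-/

set_option autoImplicit false
set_option linter.unusedSectionVars false

namespace Cfsg.Agent.H428.OT

open CoxeterSystem Subgroup Cfsg Cfsg.Lie Cfsg.Lie.ChevalleyDatum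
open Cfsg.Agent.ChevalleyStructure Cfsg.Agent.ChevalleyStructure.Elts Cfsg.Agent.ChevalleyStructure.CoxeterGeom
  Cfsg.Agent.ChevalleyStructure.CoxeterGeomTypes Cfsg.Agent.ChevalleyStructure.NPerm
open Cfsg.Agent.Tits.Roots Cfsg.Agent.Tits.Core Cfsg.Agent.Nodes.Reps Cfsg.Agent.Nodes.BNOf
  Cfsg.Agent.Nodes.RGDChev Cfsg.Agent.Nodes.Bruhat
open Cfsg.Agent.KFacts.RgdField Cfsg.Agent.KFacts.RgdChevCoord Cfsg.Agent.BpExc.TorCent Cfsg.Agent.BpExc.TorChev
open Cfsg.Agent.H412.OT

universe u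

/-! ### abstract form -/

section Abs

variable {I W Y F : Type*} [Fintype I] [DecidableEq I] [Group W] [Group Y] [Field F] {M : CoxeterMatrix I}
  {cs : CoxeterSystem M W} {A : I → I → ℤ} {h : IsCartan M A} {p : ℕ} {T : Subgroup Y} {n : I → Y}
  {X : (I → ℤ) → Subgroup Y} {xx : (I → ℤ) → F → Y} {χ : (I → ℤ) → Y → F}

theorem centralizer_tor [Finite W] (R : RGD cs h p T n X) (C : Coords cs h T n X xx χ)
    (h1 : ∀ a, IsRoot cs h a → ∃ t ∈ T, χ a t ≠ 1)
    (h2 : ∀ a b, IsRoot cs h a → IsRoot cs h b → (∀ t ∈ T, χ a t = χ b t) → a = b) {g : Y} (hg : g ∈ GG cs h T X)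
    (hc : g ∈ Subgroup.centralizer (T : Set Y)) : g ∈ T := by
  obtain ⟨u, hu, w, k, hk, hkc, v, hv, rfl⟩ := Nodes.NormalForm.mem_centralizer R (S := (T : Set Y)) (Set.Subset.refl _) hg hc
  have h3 : RGD.Sup (fun x => X x ⊓ Subgroup.centralizer (T : Set Y)) (RGD.Pos cs h) ≤ ⊥ := by
    refine RGD.Sup_le fun a ha => ?_
    rintro y ⟨hy, hyc⟩
    obtain ⟨t, ht, ht1⟩ := h1 a ha.1
    rw [Subgroup.mem_bot]
    by_contra hy1
    have h4 : y ∈ Subgroup.centralizer {t} :=
      Subgroup.centralizer_le (Set.singleton_subset_iff.2 ht) hyc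
    exact ht1 (mem_Sx_of_centralizer C ht ha.1 hy hy1 h4).2
  have hu1 : u = 1 := Subgroup.mem_bot.1 (h3 hu)
  have hv1 : v = 1 := Subgroup.mem_bot.1 (h3 hv)
  have hw : w = 1 := by
    refine eq_one_of_fix (cs := cs) (h := h) w fun i => ?_
    refine h2 _ _ ((isRoot_sr cs h i).act w) (isRoot_sr cs h i) fun t ht => ?_
    exact chi_of_centralizer R C ht hk (Subgroup.centralizer_le (Set.singleton_subset_iff.2 ht) hkc) (isRoot_sr cs h i)
  rw [hw] at hk
  rw [hu1, hv1, one_mul, mul_one]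
  exact hk.mem_of_one

end Abs

/-! ### characters -/

section Ch

variable {K : Type u} [Field K]

/-- a generator of the multiplicative group, in the form needed for characters -/
theorem exists_gen (K : Type u) [Field K] [Fintype K] :
    ∃ g : K, g ≠ 0 ∧ ∀ k l : ℤ, g ^ k = g ^ l → |k - l| < Fintype.card K - 1 → k = l := by
  classical
  obtain ⟨g, hg⟩ := IsCyclic.exists_generator (α := Kˣ)
  have ho : orderOf g = Fintype.card K - 1 := by
    rw [orderOf_eq_card_of_forall_mem_zpowers hg, Nat.card_eq_fintype_card, Fintype.card_units]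
  refine ⟨g, Units.ne_zero g, fun k l h1 h2 => ?_⟩
  have h3 : g ^ (k - l) = 1 := by
    rw [zpow_sub]
    have : g ^ k = g ^ l := by
      apply Units.ext
      rw [Units.val_zpow_eq_zpow_val, Units.val_zpow_eq_zpow_val, h1]
    rw [this, mul_inv_cancel]
  have h4 : (orderOf g : ℤ) ∣ k - l := orderOf_dvd_iff_zpow_eq_one.2 h3
  rw [ho] at h4
  have h5 : k - l = 0 := by
    by_contra h0
    have h6 := Int.le_of_dvd (abs_pos.2 h0) ((dvd_abs _ _).2 h4)
    have h7 : 1 ≤ Fintype.card K := Fintype.card_pos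
    push_cast [Nat.cast_sub h7] at h6
    omega
  omega

variable {D : ChevalleyDatum}

/-- **Distinct roots have distinct characters.** -/
theorem sep [Fintype K] (hK : 8 ≤ Fintype.card K) (hD : InList D) {r s : ℕ} (hr : r < D.nroots)
    (hs : s < D.nroots) (h : ∀ x < D.nroots, ∀ c : K, c ≠ 0 → c ^ pr D x r = c ^ pr D x s) : r = s := by
  obtain ⟨g, hg0, hg⟩ := exists_gen K
  have key : ∀ x < D.nroots, pr D x r = pr D x s := by
    intro x hx
    refine hg _ _ (h x hx g hg0) ?_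
    have h1 := abs_pr_le_three hD hx hr
    have h2 := abs_pr_le_three hD hx hs
    have h3 : |pr D x r - pr D x s| ≤ |pr D x r| + |pr D x s| := abs_sub _ _
    have h4 : (8 : ℤ) ≤ Fintype.card K := by exact_mod_cast hK
    omega
  refine eq_of_pr hD hr hs ?_ ?_
  · rw [← key r hr, pr_self hD hr]
  · rw [key s hs, pr_self hD hs]

theorem exists_ne_one [Fintype K] (hK : 4 ≤ Fintype.card K) (hD : InList D) {r : ℕ} (hr : r < D.nroots) :
    ∃ c : K, c ≠ 0 ∧ c ^ pr D r r ≠ 1 := by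
  obtain ⟨g, hg0, hg⟩ := exists_gen K
  refine ⟨g, hg0, fun h1 => ?_⟩
  rw [pr_self hD hr, ← zpow_zero g] at h1
  have h4 : (4 : ℤ) ≤ Fintype.card K := by exact_mod_cast hK
  have h2 := hg 2 0 h1 (by norm_num; omega)
  norm_num at h2

theorem exists_isType (hD : InList D) : ∃ (l : ℕ) (M : CoxeterMatrix (Fin l)), IsType D l M := by
  simp only [InList, List.mem_cons, List.not_mem_nil, or_false] at hD
  rcases hD with rfl | rfl | rfl | rfl | rfl | rfl | rfl
  · exact ⟨2, CoxeterMatrix.G₂, by simp [IsType, typeList]⟩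
  · exact ⟨2, CoxeterMatrix.B 2, by simp [IsType, typeList]⟩
  · exact ⟨4, coxeterD4, by simp [IsType, typeList]⟩
  · exact ⟨4, CoxeterMatrix.F₄, by simp [IsType, typeList]⟩
  · exact ⟨6, CoxeterMatrix.E₆, by simp [IsType, typeList]⟩
  · exact ⟨7, CoxeterMatrix.E₇, by simp [IsType, typeList]⟩
  · exact ⟨8, CoxeterMatrix.E₈, by simp [IsType, typeList]⟩

/-- `ch = chi` -/
theorem ch_eq_chi {l : ℕ} {M : CoxeterMatrix (Fin l)} (hp : IsType D l M) {r : ℕ} (hr : r < D.nroots)
    {t : ↥(D.group K)} (ht : t ∈ TT D K) : ch hp (vec D l r) t = chi D K t r := by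
  apply ch_eq hp hr ht
  apply Subtype.ext
  rw [Subgroup.coe_mul, Subgroup.coe_mul, Subgroup.coe_inv, coe_xc hp hr, coe_xc hp hr]
  rw [tor_conj_xG hp.inList (Subgroup.mem_subgroupOf.1 ht) hr, mul_one]

/-- **`C_G(T) = T`.** -/
theorem mem_tor_of_comm [Fintype K] (hK : 8 ≤ Fintype.card K) (hD : InList D) {x : GL D.Idx K}
    (hx : x ∈ D.group K) (hc : ∀ t ∈ D.diagonalSubgroup K, x * t = t * x) : x ∈ D.diagonalSubgroup K := by
  obtain ⟨l, M, hp⟩ := exists_isType hD
  obtain ⟨p, hpc⟩ := CharP.exists K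
  have hpp : Fact p.Prime := ⟨CharP.char_is_prime K p⟩
  have cs := M.toCoxeterSystem
  have := finite_W hp cs
  have R := rgd (K := K) hp cs p
  have C := coords (K := K) hp cs p
  have htor : ∀ r < D.nroots, ∀ c : K, c ≠ 0 →
      (⟨hG hp.inList r c, hG_mem_group hp.inList r c⟩ : ↥(D.group K)) ∈ TT D K := fun r hr c hc =>
    Subgroup.mem_subgroupOf.2 (hG_mem_diagonal hp.inList hr hc)
  have hch : ∀ r < D.nroots, ∀ s < D.nroots, ∀ c : K, c ≠ 0 →
      ch hp (vec D l s) (⟨hG hp.inList r c, hG_mem_group hp.inList r c⟩ : ↥(D.group K)) = c ^ pr D r s := by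
    intro r hr s hs c hc
    rw [ch_eq_chi hp hs (htor r hr c hc)]
    exact chi_hG hp.inList hr hs hc
  have h1 : (⟨x, hx⟩ : ↥(D.group K)) ∈ TT D K := by
    refine centralizer_tor R C ?_ ?_ (g := (⟨x, hx⟩ : ↥(D.group K))) ?_ ?_
    · intro a ha
      obtain ⟨r, hr, rfl⟩ := (isRoot_iff hp cs a).1 ha
      obtain ⟨c, hc0, hc1⟩ := exists_ne_one (K := K) (by omega) hD hr
      refine ⟨_, htor r hr c hc0, ?_⟩
      rwa [hch r hr r hr c hc0]
    · intro a b ha hb hab
      obtain ⟨r, hr, rfl⟩ := (isRoot_iff hp cs a).1 ha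
      obtain ⟨s, hs, rfl⟩ := (isRoot_iff hp cs b).1 hb
      congr 1
      refine sep hK hD hr hs fun y hy c hc => ?_
      rw [← hch y hy r hr c hc, ← hch y hy s hs c hc]
      exact hab _ (htor y hy c hc)
    · rw [GG_top hp cs]
      exact Subgroup.mem_top _
    · rw [Subgroup.mem_centralizer_iff]
      intro t ht
      apply Subtype.ext
      exact (hc t.1 (Subgroup.mem_subgroupOf.1 ht)).symm
  exact Subgroup.mem_subgroupOf.1 h1

end Ch

end Cfsg.Agent.H428.OT
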