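import Cfsg.Agent.H412.OT.Defs
import Cfsg.Agent.ChevalleyStructure.HMatDiagAll

/-!
# Root tables for S2539 (helper428)

* `pr_eq_expo`, `abs_pr_le_three`, `abs_pr_le_two` (all types but `G₂`), `isLong` (`D₄`, `E₆`, `E₇`, `E₈`);
* `pr_self`, `pr_neg`, `eq_of_pr` : `⟨s, r^∨⟩ = ⟨r, s^∨⟩ = 2 → r = s`;
* `IsLong.abs_pr_le` : `|⟨s, r^∨⟩| ≤ 2`;
* `tor_le_of_long` : `T` is generated by the `h_r(c)`, `r` long.
-/

set_option autoImplicit false

namespace Cfsg.Agent.H428.OT

open Cfsg Cfsg.Lie Cfsg.Lie.ChevalleyDatum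
open Cfsg.Agent.ChevalleyStructure Cfsg.Agent.ChevalleyStructure.Elts Cfsg.Agent.H412.OT
open Cfsg.Agent.ChevalleyStructure.RootCombBase (allLt allLt_spec anyLt anyLt_spec ieq ieq_spec isum isum_eq)

universe u

variable {D : ChevalleyDatum}

theorem pr_eq_expo (hD : InList D) {r s : ℕ} (hr : r < D.nroots) (hs : s < D.nroots) :
    pr D r s = HMatDiagAll.expo D r s := by
  have h1 := allDiag (K := ℚ) hD r hr 2 two_ne_zero
  have h2 := HMatDiagAll.hMat_eq_diagonal (F := ℚ) hD hr (t := 2) two_ne_zero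
  have h3 := h1.symm.trans h2
  have h4 := congrFun (congrFun h3 (Sum.inr ⟨s, hs⟩)) (Sum.inr ⟨s, hs⟩)
  rw [Matrix.diagonal_apply_eq, Matrix.diagonal_apply_eq, Sum.elim_inr, Sum.elim_inr] at h4
  exact zpow_right_injective₀ (by norm_num) (by norm_num) h4

theorem pr_self (hD : InList D) {r : ℕ} (hr : r < D.nroots) : pr D r r = 2 := by
  rw [pr_eq_expo hD hr hr, HMatDiagAll.expo, if_pos rfl]

theorem neg_ne {D : ChevalleyDatum} (hD : InList D) {r : ℕ} (hr : r < D.nroots) : D.neg r ≠ r := by
  have hG := RootComb.good_of_mem hD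
  rw [hG.neg_eq hr]
  have := hG.nroots_eq
  omega

theorem neg_lt (hD : InList D) {r : ℕ} (hr : r < D.nroots) : D.neg r < D.nroots := by
  rw [(RootComb.good_of_mem hD).neg_eq hr]
  omega

theorem neg_neg' (hD : InList D) {r : ℕ} (hr : r < D.nroots) : D.neg (D.neg r) = r := by
  have hG := RootComb.good_of_mem hD
  rw [hG.neg_eq (neg_lt hD hr), hG.neg_eq hr]
  omega

theorem pr_neg (hD : InList D) {r : ℕ} (hr : r < D.nroots) : pr D r (D.neg r) = -2 := by
  rw [pr_eq_expo hD hr (neg_lt hD hr), HMatDiagAll.expo, if_neg (neg_ne hD hr), if_pos rfl]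

/-- all chains have length at most `m` -/
def chkLen (D : ChevalleyDatum) (m : ℕ) : Bool :=
  (List.range D.nroots).all fun r => (D.chain.getD r #[]).toList.all fun e => Nat.ble e.2.toList.length m

theorem length_le {m : ℕ} (h : chkLen D m = true) {r : ℕ} (hr : r < D.nroots) (s : ℕ) :
    (D.chainEntry r s).length ≤ m := by
  unfold chkLen at h
  rw [List.all_eq_true] at h
  have h1 := h r (List.mem_range.2 hr)
  rw [List.all_eq_true] at h1
  unfold ChevalleyDatum.chainEntry
  split
  · exact Nat.zero_le _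
  · rename_i e he
    exact Nat.le_of_ble_eq_true (h1 e (List.mem_of_find?_eq_some he))

theorem abs_pr_le (hD : InList D) {m : ℕ} (h : chkLen D m = true) {r s : ℕ} (hr : r < D.nroots) (hs : s < D.nroots)
    (h1 : s ≠ r) (h2 : s ≠ D.neg r) : |pr D r s| ≤ m := by
  rw [pr_eq_expo hD hr hs, HMatDiagAll.expo, if_neg h1, if_neg h2]
  have h3 := length_le h hr s
  have h4 := length_le h (neg_lt hD hr) s
  rw [abs_le]
  constructor <;> omega

theorem abs_pr_le' (hD : InList D) {m : ℕ} (h : chkLen D m = true) (hm : 2 ≤ m) {r s : ℕ} (hr : r < D.nroots)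
    (hs : s < D.nroots) : |pr D r s| ≤ m := by
  by_cases h1 : s = r
  · rw [h1, pr_self hD hr, abs_of_pos (by norm_num)]
    exact_mod_cast hm
  by_cases h2 : s = D.neg r
  · rw [h2, pr_neg hD hr, abs_neg, abs_of_pos (by norm_num)]
    exact_mod_cast hm
  exact abs_pr_le hD h hr hs h1 h2

theorem chkLen_D4 : chkLen chevD4 1 = true := by decide +kernel
theorem chkLen_E6 : chkLen chevE6 1 = true := by decide +kernel
theorem chkLen_E7 : chkLen chevE7 1 = true := by decide +kernel
theorem chkLen_E8 : chkLen chevE8 1 = true := by decide +kernel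
theorem chkLen_F4 : chkLen chevF4 2 = true := by decide +kernel
theorem chkLen_B2 : chkLen chevB2 2 = true := by decide +kernel
theorem chkLen_G2 : chkLen chevG2 3 = true := by decide +kernel

theorem chkLen_mono {m m' : ℕ} (h : chkLen D m = true) (hm : m ≤ m') : chkLen D m' = true := by
  unfold chkLen at h ⊢
  rw [List.all_eq_true] at h ⊢
  intro r hr
  have h1 := h r hr
  rw [List.all_eq_true] at h1 ⊢
  intro e he
  exact Nat.ble_eq_true_of_le ((Nat.le_of_ble_eq_true (h1 e he)).trans hm)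

theorem chkLen_one (hD : D ∈ [chevD4, chevE6, chevE7, chevE8]) : chkLen D 1 = true := by
  simp only [List.mem_cons, List.not_mem_nil, or_false] at hD
  rcases hD with rfl | rfl | rfl | rfl
  · exact chkLen_D4
  · exact chkLen_E6
  · exact chkLen_E7
  · exact chkLen_E8

theorem chkLen_two (hD : D ∈ [chevB2, chevD4, chevF4, chevE6, chevE7, chevE8]) : chkLen D 2 = true := by
  simp only [List.mem_cons, List.not_mem_nil, or_false] at hD
  rcases hD with rfl | rfl | rfl | rfl | rfl | rfl
  · exact chkLen_B2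
  · exact chkLen_mono chkLen_D4 (by norm_num)
  · exact chkLen_F4
  · exact chkLen_mono chkLen_E6 (by norm_num)
  · exact chkLen_mono chkLen_E7 (by norm_num)
  · exact chkLen_mono chkLen_E8 (by norm_num)

theorem chkLen_three (hD : InList D) : chkLen D 3 = true := by
  simp only [InList, List.mem_cons, List.not_mem_nil, or_false] at hD
  rcases hD with rfl | rfl | rfl | rfl | rfl | rfl | rfl
  · exact chkLen_G2
  · exact chkLen_mono chkLen_B2 (by norm_num)
  · exact chkLen_mono chkLen_D4 (by norm_num)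
  · exact chkLen_mono chkLen_F4 (by norm_num)
  · exact chkLen_mono chkLen_E6 (by norm_num)
  · exact chkLen_mono chkLen_E7 (by norm_num)
  · exact chkLen_mono chkLen_E8 (by norm_num)

/-- `|⟨s, r^∨⟩| ≤ 3` in all types -/
theorem abs_pr_le_three (hD : InList D) {r s : ℕ} (hr : r < D.nroots) (hs : s < D.nroots) : |pr D r s| ≤ 3 :=
  abs_pr_le' hD (chkLen_three hD) (by norm_num) hr hs

theorem inList_two (hD : D ∈ [chevB2, chevD4, chevF4, chevE6, chevE7, chevE8]) : InList D := by
  simp only [List.mem_cons, List.not_mem_nil, or_false] at hD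
  simp only [InList, List.mem_cons, List.not_mem_nil, or_false]
  tauto

theorem inList_one (hD : D ∈ [chevD4, chevE6, chevE7, chevE8]) : InList D := by
  simp only [List.mem_cons, List.not_mem_nil, or_false] at hD
  simp only [InList, List.mem_cons, List.not_mem_nil, or_false]
  tauto

/-- `|⟨s, r^∨⟩| ≤ 2` in all types but `G₂` -/
theorem abs_pr_le_two (hD : D ∈ [chevB2, chevD4, chevF4, chevE6, chevE7, chevE8]) {r s : ℕ} (hr : r < D.nroots)
    (hs : s < D.nroots) : |pr D r s| ≤ 2 :=
  abs_pr_le' (inList_two hD) (chkLen_two hD) (by norm_num) hr hs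

/-- all roots are long in the simply laced types -/
theorem isLong_of_mem (hD : D ∈ [chevD4, chevE6, chevE7, chevE8]) {r : ℕ} (hr : r < D.nroots) : IsLong D r :=
  ⟨hr, fun _ hs h1 h2 => abs_pr_le (inList_one hD) (chkLen_one hD) hr hs h1 h2⟩

/-- `|⟨s, r^∨⟩| ≤ 2` for `r` long -/
theorem abs_pr_of_long (hD : InList D) {r s : ℕ} (hr : IsLong D r) (hs : s < D.nroots) : |pr D r s| ≤ 2 := by
  by_cases h1 : s = r
  · rw [h1, pr_self hD hr.1, abs_of_pos (by norm_num)]
  by_cases h2 : s = D.neg r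
  · rw [h2, pr_neg hD hr.1, abs_neg, abs_of_pos (by norm_num)]
  exact (hr.2 s hs h1 h2).trans (by norm_num)

/-! ### small types: direct computation -/

/-- `pr` for the kernel -/
def prK (D : ChevalleyDatum) (r s : ℕ) : ℤ :=
  isum (fun k => Int.mul ((D.coroot.getD r #[]).getD k 0) (D.cartan k s)) D.rank

theorem prK_eq (D : ChevalleyDatum) (r s : ℕ) : prK D r s = pr D r s := by
  unfold prK
  rw [isum_eq]
  rfl

/-- `⟨s, r^∨⟩ = ⟨r, s^∨⟩ = 2` only for `r = s` -/
def chkTwoTwo (D : ChevalleyDatum) : Bool :=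
  allLt (fun r => allLt (fun s => or (Nat.beq r s) (not (and (ieq (prK D r s) 2) (ieq (prK D s r) 2)))) D.nroots) D.nroots

theorem chkTwoTwo_F4 : chkTwoTwo chevF4 = true := by decide +kernel
theorem chkTwoTwo_G2 : chkTwoTwo chevG2 = true := by decide +kernel
theorem chkTwoTwo_B2 : chkTwoTwo chevB2 = true := by decide +kernel

theorem ieq_self (a : ℤ) : ieq a a = true := by
  cases a with
  | ofNat m => exact Nat.beq_refl m
  | negSucc m => exact Nat.beq_refl m

theorem eq_of_chk (h : chkTwoTwo D = true) {r s : ℕ} (hr : r < D.nroots) (hs : s < D.nroots) (h1 : pr D r s = 2)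
    (h2 : pr D s r = 2) : r = s := by
  have h3 := allLt_spec (allLt_spec h r hr) s hs
  rw [prK_eq, prK_eq, h1, h2, ieq_self, Bool.and_self, Bool.not_true, Bool.or_false] at h3
  exact Nat.eq_of_beq_eq_true h3

/-- **`⟨s, r^∨⟩ = ⟨r, s^∨⟩ = 2` only for `r = s`.** -/
theorem eq_of_pr (hD : InList D) {r s : ℕ} (hr : r < D.nroots) (hs : s < D.nroots) (h1 : pr D r s = 2)
    (h2 : pr D s r = 2) : r = s := by
  have key : chkLen D 1 = true → r = s := by
    intro h
    by_contra hne
    by_cases h3 : s = D.neg r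
    · rw [h3, pr_neg hD hr] at h1
      norm_num at h1
    · have := abs_pr_le hD h hr hs (Ne.symm hne) h3
      rw [h1] at this
      norm_num at this
  simp only [InList, List.mem_cons, List.not_mem_nil, or_false] at hD
  rcases hD with rfl | rfl | rfl | rfl | rfl | rfl | rfl
  · exact eq_of_chk chkTwoTwo_G2 hr hs h1 h2
  · exact eq_of_chk chkTwoTwo_B2 hr hs h1 h2
  · exact key chkLen_D4
  · exact eq_of_chk chkTwoTwo_F4 hr hs h1 h2
  · exact key chkLen_E6
  · exact key chkLen_E7
  · exact key chkLen_E8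

/-! ### long roots generate the torus -/

/-- `IsLong` for the kernel -/
def longK (D : ChevalleyDatum) (r : ℕ) : Bool :=
  and (Nat.ble (Nat.succ r) D.nroots) (allLt (fun s => or (Nat.beq s r) (or (Nat.beq s (D.neg r))
    (or (ieq (prK D r s) 0) (or (ieq (prK D r s) 1) (ieq (prK D r s) (-1)))))) D.nroots)

theorem isLong_of_chk {r : ℕ} (h : longK D r = true) : IsLong D r := by
  unfold longK at h
  rw [Bool.and_eq_true] at h
  refine ⟨Nat.le_of_ble_eq_true h.1, fun s hs h1 h2 => ?_⟩
  have h3 := allLt_spec h.2 s hs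
  simp only [Bool.or_eq_true] at h3
  rcases h3 with h3 | h3 | h3 | h3 | h3
  · exact absurd (Nat.eq_of_beq_eq_true h3) h1
  · exact absurd (Nat.eq_of_beq_eq_true h3) h2
  · rw [← prK_eq, ieq_spec h3]; norm_num
  · rw [← prK_eq, ieq_spec h3]; norm_num
  · rw [← prK_eq, ieq_spec h3]; norm_num

/-- `p^∨ = r^∨ + s^∨` -/
def sumK (D : ChevalleyDatum) (p r s : ℕ) : Bool :=
  allLt (fun x => ieq (prK D p x) (Int.add (prK D r x) (prK D s x))) D.nroots

theorem hG_of_sum {K : Type u} [Field K] (hD : InList D) {p r s : ℕ} (h : sumK D p r s = true) (hp : p < D.nroots)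
    (hr : r < D.nroots) (hs : s < D.nroots) {c : K} (hc : c ≠ 0) : hG hD p c = hG hD r c * hG hD s c := by
  apply Units.ext
  rw [Units.val_mul, coe_hG_diag hD hp hc, coe_hG_diag hD hr hc, coe_hG_diag hD hs hc, Matrix.diagonal_mul_diagonal]
  congr 1
  funext x
  rcases x with i | x
  · rw [Sum.elim_inl, Sum.elim_inl, Sum.elim_inl, mul_one]
  · rw [Sum.elim_inr, Sum.elim_inr, Sum.elim_inr, ← zpow_add₀ hc]
    congr 1
    have h1 := ieq_spec (allLt_spec h x.1 x.2)
    rw [prK_eq] at h1
    rw [h1, prK_eq, prK_eq]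
    rfl

/-- a fundamental root is long or its coroot is a sum of two coroots of long roots -/
def chkGen (D : ChevalleyDatum) (L : List (ℕ × ℕ)) : Bool :=
  allLt (fun i => or (longK D (D.simple i))
    (and (longK D (L.getD i (0, 0)).1) (and (longK D (L.getD i (0, 0)).2)
      (sumK D (D.simple i) (L.getD i (0, 0)).1 (L.getD i (0, 0)).2)))) D.rank

theorem chkGen_F4 : chkGen chevF4 [(15, 43), (4, 45), (0, 0), (0, 0)] = true := by decide +kernel
theorem chkGen_G2 : chkGen chevG2 [(5, 10), (0, 0)] = true := by decide +kernel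

theorem simple_long (hD : D ∈ [chevG2, chevD4, chevF4, chevE6, chevE7, chevE8]) {i : ℕ} (hi : i < D.rank) :
    IsLong D (D.simple i) ∨ ∃ r s, IsLong D r ∧ IsLong D s ∧ sumK D (D.simple i) r s = true := by
  have key : ∀ {L : List (ℕ × ℕ)}, chkGen D L = true →
      IsLong D (D.simple i) ∨ ∃ r s, IsLong D r ∧ IsLong D s ∧ sumK D (D.simple i) r s = true := by
    intro L h
    have h1 := allLt_spec h i hi
    simp only [Bool.or_eq_true, Bool.and_eq_true] at h1
    rcases h1 with h1 | h1
    · exact Or.inl (isLong_of_chk h1)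
    · exact Or.inr ⟨_, _, isLong_of_chk h1.1, isLong_of_chk h1.2.1, h1.2.2⟩
  have key1 : D ∈ [chevD4, chevE6, chevE7, chevE8] → IsLong D (D.simple i) := fun h =>
    isLong_of_mem h (NPerm.simple_lt (inList_one h) hi)
  simp only [List.mem_cons, List.not_mem_nil, or_false] at hD
  rcases hD with rfl | rfl | rfl | rfl | rfl | rfl
  · exact key chkGen_G2
  · exact Or.inl (key1 (by simp))
  · exact key chkGen_F4
  · exact Or.inl (key1 (by simp))
  · exact Or.inl (key1 (by simp))
  · exact Or.inl (key1 (by simp))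

/-- **`T` is generated by the `h_r(c)`, `r` long.** -/
theorem tor_le_of_long {K : Type u} [Field K] (hD : InList D)
    (hD' : D ∈ [chevG2, chevD4, chevF4, chevE6, chevE7, chevE8]) (H : Subgroup (GL D.Idx K))
    (h : ∀ r, IsLong D r → ∀ c : K, c ≠ 0 → hG hD r c ∈ H) : D.diagonalSubgroup K ≤ H := by
  have h1 : ∀ i < D.rank, ∀ c : K, c ≠ 0 → hG hD (D.simple i) c ∈ H := by
    intro i hi c hc
    rcases simple_long hD' hi with h2 | ⟨r, s, hr, hs, h2⟩
    · exact h _ h2 c hc
    · rw [hG_of_sum hD h2 (NPerm.simple_lt hD hi) hr.1 hs.1 hc]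
      exact mul_mem (h r hr c hc) (h s hs c hc)
  intro t ht
  obtain ⟨c, hc, e⟩ := TorusRange.exists_word (simpleDiag hD) (allDiag hD) t ht
  have h2 : t = wordG hD ((List.range D.rank).flatMap fun i => D.hWord (D.simple i) (c i)) :=
    (eq_wordG_iff hD _ _).2 e
  have h3 : ∀ n ≤ D.rank, wordG hD ((List.range n).flatMap fun i => D.hWord (D.simple i) (c i)) ∈ H := by
    intro n
    induction n with
    | zero => exact fun _ => one_mem _
    | succ n ih =>
      intro hn
      rw [List.range_succ, List.flatMap_append, wordG_append, List.flatMap_cons, List.flatMap_nil, List.append_nil]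
      exact mul_mem (ih (by omega)) (h1 n (by omega) (c n) (hc n (by omega)))
  rw [h2]
  exact h3 _ le_rfl

theorem tor_eq_iSup_long {K : Type u} [Field K] (hD : D ∈ [chevG2, chevD4, chevF4, chevE6, chevE7, chevE8]) :
    D.diagonalSubgroup K = ⨆ r, ⨆ _ : IsLong D r, Hr D K r := by
  apply le_antisymm
  · exact tor_le_of_long (inList_of_mem hD) hD _ fun r hr c hc =>
      (le_iSup₂ (f := fun r (_ : IsLong D r) => Hr D K r) r hr) (hG_mem_Hr (inList_of_mem hD) r hc)
  · exact iSup₂_le fun r hr => Hr_le (inList_of_mem hD) hr.1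

end Cfsg.Agent.H428.OT
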