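import Cfsg.Agent.H428.OT.Lau
import Cfsg.Agent.H428.OT.CT

/-!
# (LT) for the groups `D.group K` (helper428), for S2539

`K` finite, `T = D.diagonalSubgroup K`, `g ∈ D.group K`, everything elementwise (`g x g⁻¹`).

* `prL D L s = ∑_{r ∈ L} ⟨s, r^∨⟩`, `hL hD L c = ∏_{r ∈ L} h_r(c)` (`L` a list of roots);
* `lt_list` : (LT1') window `|prL D L x| ≤ m` for all roots `x`, `s * (2 m) < (s - 1) (q - 1)`, `s` = a lower bound for
  the divisors `≠ 1` of `q - 1`: if `g h_L(c) g⁻¹ ∈ N(T)` for all `c`, then `g h_L(c) g⁻¹ ∈ T` for all `c`;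
* `lt_list'` : the same with `4 m < q - 1`;
* `lt_long`, `lt_long_Hr` : (LT1), `r` long, `10 ≤ q`; `lt_any` : every root, all types but `G₂`;
  `lt_three` : every root, every type, `14 ≤ q`;
* `lt_tor`, `lt_tor_norm` : (LT2) `g T g⁻¹ ≤ N(T) → g ∈ N(T)`.
-/

set_option autoImplicit false
set_option linter.unusedSectionVars false

namespace Cfsg.Agent.H428.OT

open Subgroup Cfsg Cfsg.Lie Cfsg.Lie.ChevalleyDatum
open Cfsg.Agent.ChevalleyStructure Cfsg.Agent.ChevalleyStructure.Elts Cfsg.Agent.H412.OT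
open Cfsg.Agent.H186.OT

universe u

variable {K : Type u} [Field K] {D : ChevalleyDatum}

/-- `T` consists of diagonal matrices. -/
theorem isDiagSub_tor (hD : InList D) : IsDiagSub (D.diagonalSubgroup K) := fun _ ht => ⟨_, coe_tor hD ht⟩

/-- `∑_{r ∈ L} ⟨s, r^∨⟩` -/
def prL (D : ChevalleyDatum) (L : List ℕ) (s : ℕ) : ℤ := (L.map fun r => pr D r s).sum

@[simp] theorem prL_nil (s : ℕ) : prL D [] s = 0 := rfl

@[simp] theorem prL_cons (r : ℕ) (L : List ℕ) (s : ℕ) : prL D (r :: L) s = pr D r s + prL D L s := by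
  simp [prL]

/-- `∏_{r ∈ L} h_r(c)` -/
def hL (hD : InList D) (L : List ℕ) (c : K) : GL D.Idx K := (L.map fun r => hG hD r c).prod

@[simp] theorem hL_nil (hD : InList D) (c : K) : hL hD [] c = 1 := rfl

@[simp] theorem hL_cons (hD : InList D) (r : ℕ) (L : List ℕ) (c : K) : hL hD (r :: L) c = hG hD r c * hL hD L c := by
  simp [hL]

theorem hL_mem (hD : InList D) {L : List ℕ} (hL' : ∀ r ∈ L, r < D.nroots) {c : K} (hc : c ≠ 0) :
    hL hD L c ∈ D.diagonalSubgroup K := by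
  induction L with
  | nil => exact one_mem _
  | cons r L ih =>
    rw [hL_cons]
    exact mul_mem (hG_mem hD (hL' r List.mem_cons_self) hc) (ih fun x hx => hL' x (List.mem_cons_of_mem _ hx))

theorem chi_hL (hD : InList D) {L : List ℕ} (hL' : ∀ r ∈ L, r < D.nroots) {c : K} (hc : c ≠ 0) {s : ℕ}
    (hs : s < D.nroots) : chi D K (hL hD L c) s = c ^ prL D L s := by
  induction L with
  | nil => rw [hL_nil, chi_one, prL_nil, zpow_zero]
  | cons r L ih =>
    have h1 : ∀ x ∈ L, x < D.nroots := fun x hx => hL' x (List.mem_cons_of_mem _ hx)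
    rw [hL_cons, chi_mul hD (hG_mem hD (hL' r List.mem_cons_self) hc) (hL_mem hD h1 hc),
      chi_hG hD (hL' r List.mem_cons_self) hs hc, ih h1, prL_cons, zpow_add₀ hc]

/-- the exponents of `hL` -/
def eL (D : ChevalleyDatum) (L : List ℕ) : D.Idx → ℤ := Sum.elim (fun _ => 0) fun s => prL D L s

theorem hL_eq_dco (hD : InList D) {L : List ℕ} (hL' : ∀ r ∈ L, r < D.nroots) (c : Kˣ) :
    hL hD L (c : K) = dco (eL D L) c := by
  apply Units.ext
  rw [coe_tor hD (hL_mem hD hL' (Units.ne_zero c)), coe_dco]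
  congr 1
  funext x
  rcases x with i | s
  · show (1 : K) = ((c ^ (0 : ℤ) : Kˣ) : K)
    rw [zpow_zero, Units.val_one]
  · show chi D K (hL hD L (c : K)) s = ((c ^ prL D L s : Kˣ) : K)
    rw [chi_hL hD hL' (Units.ne_zero c) s.2, Units.val_zpow_eq_zpow_val]

/-- **(LT1')** -/
theorem lt_list [Fintype K] (hK : 8 ≤ Fintype.card K) (hD : InList D) {s m : ℕ}
    (hs : ∀ d : ℕ, d ∣ Fintype.card K - 1 → d ≠ 1 → s ≤ d) (hm : s * (2 * m) < (s - 1) * (Fintype.card K - 1))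
    {L : List ℕ} (hL' : ∀ r ∈ L, r < D.nroots) (hw : ∀ x < D.nroots, |prL D L x| ≤ m) {g : GL D.Idx K}
    (hg : g ∈ D.group K)
    (hN : ∀ c : K, c ≠ 0 → g * hL hD L c * g⁻¹ ∈ Subgroup.normalizer (D.diagonalSubgroup K : Set (GL D.Idx K)))
    {c : K} (hc : c ≠ 0) : g * hL hD L c * g⁻¹ ∈ D.diagonalSubgroup K := by
  refine mem_tor_of_comm hK hD ?_ ?_
  · exact mul_mem (mul_mem hg (diagonal_le_group hD K (hL_mem hD hL' hc))) (inv_mem hg)
  · have h1 : ∀ i, -(m : ℤ) ≤ eL D L i ∧ eL D L i ≤ -(m : ℤ) + ((2 * m : ℕ) : ℤ) := by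
      intro i
      rcases i with i | x
      · show -(m : ℤ) ≤ 0 ∧ 0 ≤ -(m : ℤ) + ((2 * m : ℕ) : ℤ)
        constructor <;> push_cast <;> omega
      · have h2 := abs_le.1 (hw x x.2)
        show -(m : ℤ) ≤ prL D L x ∧ prL D L x ≤ -(m : ℤ) + ((2 * m : ℕ) : ℤ)
        constructor
        · exact h2.1
        · push_cast
          linarith [h2.2]
    have h2 := lau (isDiagSub_tor (K := K) hD) hs hm h1 g (fun c => by
      rw [← hL_eq_dco hD hL' c]; exact hN c (Units.ne_zero c)) (Units.mk0 c hc)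
    rw [← hL_eq_dco hD hL'] at h2
    exact h2

/-- (LT1') with `4 m < q - 1` -/
theorem lt_list' [Fintype K] (hK : 8 ≤ Fintype.card K) (hD : InList D) {m : ℕ} (hm : 4 * m < Fintype.card K - 1)
    {L : List ℕ} (hL' : ∀ r ∈ L, r < D.nroots) (hw : ∀ x < D.nroots, |prL D L x| ≤ m) {g : GL D.Idx K}
    (hg : g ∈ D.group K)
    (hN : ∀ c : K, c ≠ 0 → g * hL hD L c * g⁻¹ ∈ Subgroup.normalizer (D.diagonalSubgroup K : Set (GL D.Idx K)))
    {c : K} (hc : c ≠ 0) : g * hL hD L c * g⁻¹ ∈ D.diagonalSubgroup K := by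
  have h := arith_two (n := Fintype.card K - 1) (D := 2 * m) (by omega)
  exact lt_list hK hD h.1 h.2 hL' hw hg hN hc

/-- (LT1) for one root with a window `[-m, m]` -/
theorem lt_root [Fintype K] (hK : 8 ≤ Fintype.card K) (hD : InList D) {m : ℕ} (hm : 4 * m < Fintype.card K - 1)
    {r : ℕ} (hr : r < D.nroots) (hw : ∀ x < D.nroots, |pr D r x| ≤ m) {g : GL D.Idx K} (hg : g ∈ D.group K)
    (hN : ∀ c : K, c ≠ 0 → g * hG hD r c * g⁻¹ ∈ Subgroup.normalizer (D.diagonalSubgroup K : Set (GL D.Idx K)))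
    {c : K} (hc : c ≠ 0) : g * hG hD r c * g⁻¹ ∈ D.diagonalSubgroup K := by
  have e : ∀ c : K, hL hD [r] c = hG hD r c := fun c => by rw [hL_cons, hL_nil, mul_one]
  have h := lt_list' (K := K) hK hD hm (L := [r]) (fun x hx => by rw [List.mem_singleton.1 hx]; exact hr)
    (fun x hx => by rw [prL_cons, prL_nil, add_zero]; exact hw x hx) hg (fun c hc => by rw [e]; exact hN c hc) hc
  rwa [e] at h

/-- **(LT1)**, `r` long -/
theorem lt_long [Fintype K] (hK : 10 ≤ Fintype.card K) (hD : InList D) {r : ℕ} (hr : IsLong D r) {g : GL D.Idx K}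
    (hg : g ∈ D.group K)
    (hN : ∀ c : K, c ≠ 0 → g * hG hD r c * g⁻¹ ∈ Subgroup.normalizer (D.diagonalSubgroup K : Set (GL D.Idx K)))
    {c : K} (hc : c ≠ 0) : g * hG hD r c * g⁻¹ ∈ D.diagonalSubgroup K :=
  lt_root (by omega) hD (m := 2) (by omega) hr.1 (fun x hx => by exact_mod_cast abs_pr_of_long hD hr hx) hg hN hc

/-- (LT1), every root, all types but `G₂` -/
theorem lt_any [Fintype K] (hK : 10 ≤ Fintype.card K) (hD : InList D)
    (hD' : D ∈ [chevB2, chevD4, chevF4, chevE6, chevE7, chevE8]) {r : ℕ} (hr : r < D.nroots) {g : GL D.Idx K}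
    (hg : g ∈ D.group K)
    (hN : ∀ c : K, c ≠ 0 → g * hG hD r c * g⁻¹ ∈ Subgroup.normalizer (D.diagonalSubgroup K : Set (GL D.Idx K)))
    {c : K} (hc : c ≠ 0) : g * hG hD r c * g⁻¹ ∈ D.diagonalSubgroup K :=
  lt_root (by omega) hD (m := 2) (by omega) hr (fun x hx => by exact_mod_cast abs_pr_le_two hD' hr hx) hg hN hc

/-- (LT1), every root, every type, `q > 13` -/
theorem lt_three [Fintype K] (hK : 14 ≤ Fintype.card K) (hD : InList D) {r : ℕ} (hr : r < D.nroots)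
    {g : GL D.Idx K} (hg : g ∈ D.group K)
    (hN : ∀ c : K, c ≠ 0 → g * hG hD r c * g⁻¹ ∈ Subgroup.normalizer (D.diagonalSubgroup K : Set (GL D.Idx K)))
    {c : K} (hc : c ≠ 0) : g * hG hD r c * g⁻¹ ∈ D.diagonalSubgroup K :=
  lt_root (by omega) hD (m := 3) (by omega) hr (fun x hx => by exact_mod_cast abs_pr_le_three hD hr hx) hg hN hc

theorem mem_Hr_iff (hD : InList D) {r : ℕ} (hr : r < D.nroots) {x : GL D.Idx K} :
    x ∈ Hr D K r ↔ ∃ c : K, c ≠ 0 ∧ x = hG hD r c := by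
  constructor
  · intro hx
    have e : ∀ c : Kˣ, hG hD r (c : K) = dco (eL D [r]) c := fun c => by
      rw [← hL_eq_dco hD (fun x hx => by rw [List.mem_singleton.1 hx]; exact hr) c, hL_cons, hL_nil, mul_one]
    have h1 : Hr D K r ≤ (dco (K := K) (eL D [r])).range := by
      refine (Subgroup.closure_le _).2 ?_
      rintro g ⟨c, hc, hg⟩
      refine ⟨Units.mk0 c hc, ?_⟩
      rw [← e, Units.val_mk0]
      exact ((eq_hG_iff hD g r c).2 hg).symm
    obtain ⟨c, hc⟩ := h1 hx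
    exact ⟨c, Units.ne_zero c, by rw [e, hc]⟩
  · rintro ⟨c, hc, rfl⟩
    exact hG_mem_Hr hD r hc

/-- **(LT1)**, `r` long, for the group `H_r` -/
theorem lt_long_Hr [Fintype K] (hK : 10 ≤ Fintype.card K) (hD : InList D) {r : ℕ} (hr : IsLong D r) {g : GL D.Idx K}
    (hg : g ∈ D.group K)
    (hN : ∀ x ∈ Hr D K r, g * x * g⁻¹ ∈ Subgroup.normalizer (D.diagonalSubgroup K : Set (GL D.Idx K))) :
    ∀ x ∈ Hr D K r, g * x * g⁻¹ ∈ D.diagonalSubgroup K := by
  intro x hx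
  obtain ⟨c, hc, rfl⟩ := (mem_Hr_iff hD hr.1).1 hx
  exact lt_long hK hD hr hg (fun c hc => hN _ (hG_mem_Hr hD r hc)) hc

/-- (LT1), every root, all types but `G₂`, for the group `H_r` -/
theorem lt_any_Hr [Fintype K] (hK : 10 ≤ Fintype.card K) (hD : InList D)
    (hD' : D ∈ [chevB2, chevD4, chevF4, chevE6, chevE7, chevE8]) {r : ℕ} (hr : r < D.nroots) {g : GL D.Idx K}
    (hg : g ∈ D.group K)
    (hN : ∀ x ∈ Hr D K r, g * x * g⁻¹ ∈ Subgroup.normalizer (D.diagonalSubgroup K : Set (GL D.Idx K))) :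
    ∀ x ∈ Hr D K r, g * x * g⁻¹ ∈ D.diagonalSubgroup K := by
  intro x hx
  obtain ⟨c, hc, rfl⟩ := (mem_Hr_iff hD hr).1 hx
  exact lt_any hK hD hD' hr hg (fun c hc => hN _ (hG_mem_Hr hD r hc)) hc

/-- **(LT2)** -/
theorem lt_tor [Fintype K] (hK : 10 ≤ Fintype.card K) (hD : D ∈ [chevG2, chevD4, chevF4, chevE6, chevE7, chevE8])
    {g : GL D.Idx K} (hg : g ∈ D.group K)
    (hN : ∀ t ∈ D.diagonalSubgroup K, g * t * g⁻¹ ∈ Subgroup.normalizer (D.diagonalSubgroup K : Set (GL D.Idx K))) :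
    ∀ t ∈ D.diagonalSubgroup K, g * t * g⁻¹ ∈ D.diagonalSubgroup K := by
  have hD' := inList_of_mem hD
  have h1 : D.diagonalSubgroup K ≤ (D.diagonalSubgroup K).comap (MulAut.conj g).toMonoidHom := by
    refine tor_le_of_long hD' hD _ fun r hr c hc => ?_
    exact lt_long hK hD' hr hg (fun c hc => hN _ (hG_mem hD' hr.1 hc)) hc
  exact fun t ht => h1 ht

/-- an element of finite order conjugating a finite subgroup into itself normalises it -/
theorem mem_normalizer_of_conj_le {G : Type*} [Group G] {T : Subgroup G} [Finite T] {g : G}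
    (h : ∀ t ∈ T, g * t * g⁻¹ ∈ T) : g ∈ Subgroup.normalizer (T : Set G) := by
  have h1 : T.map (MulAut.conj g).toMonoidHom = T := by
    apply Subgroup.eq_of_le_of_card_ge
    · rintro _ ⟨t, ht, rfl⟩
      exact h t ht
    · exact (Nat.card_congr (Subgroup.equivMapOfInjective T (MulAut.conj g).toMonoidHom
        (MulAut.conj g).injective).toEquiv).le
  rw [Subgroup.mem_normalizer_iff]
  intro x
  constructor
  · exact h x
  · intro hx
    rw [← h1] at hx
    obtain ⟨t, ht, e⟩ := hx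
    have : t = x := (MulAut.conj g).injective e
    rwa [← this]

/-- **(LT2)** `g T g⁻¹ ≤ N(T) → g ∈ N(T)` -/
theorem lt_tor_norm [Fintype K] (hK : 10 ≤ Fintype.card K)
    (hD : D ∈ [chevG2, chevD4, chevF4, chevE6, chevE7, chevE8])
    {g : GL D.Idx K} (hg : g ∈ D.group K)
    (hN : ∀ t ∈ D.diagonalSubgroup K, g * t * g⁻¹ ∈ Subgroup.normalizer (D.diagonalSubgroup K : Set (GL D.Idx K))) :
    g ∈ Subgroup.normalizer (D.diagonalSubgroup K : Set (GL D.Idx K)) := by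
  classical
  exact mem_normalizer_of_conj_le (lt_tor hK hD hg hN)

end Cfsg.Agent.H428.OT
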