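import Cfsg.Agent.H428.OT.Coc
import Cfsg.Agent.H46.MSChev
import Cfsg.Agent.H3.OT.Weyl
import Cfsg.Agent.H501.OT.Long

/-!
# Subsystem subgroups of type `A₂` (helper428), for S2539

`h : IsA2 D a b c`, `DA D K a b c = ⟨X_a, X_b, X_c, X_{-a}, X_{-b}, X_{-c}⟩`, a quotient of `SL₃(K)`.

* `Q1` : `x ∈ DA ⊔ T`, `x²` centralises `DA`: `x` is `DA`-conjugate into `T`;
* `Q2` : `x = d n`, `d ∈ DA`, `n ∈ N` permuting the six roots, `x²` centralises `DA`: `x` is `DA`-conjugate into `N(T)`;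
* `Q3` : `DA` is perfect, its normal subgroups are `DA` or central in `DA`.
-/

set_option autoImplicit false

namespace Cfsg.Agent.H428.OT

open Subgroup
open Cfsg Cfsg.Lie Cfsg.Lie.ChevalleyDatum
open Cfsg.Agent.ChevalleyStructure Cfsg.Agent.ChevalleyStructure.Elts Cfsg.Agent.ChevalleyStructure.NPerm
open Cfsg.Agent.H412.OT Cfsg.Agent.H46.MS Lin

universe u

variable {D : ChevalleyDatum} {K : Type u} [Field K]

/-- the subgroup generated by the six root subgroups -/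
def DA (D : ChevalleyDatum) (K : Type u) [Field K] (a b c : ℕ) : Subgroup (GL D.Idx K) :=
  D.rootSubgroup K a ⊔ D.rootSubgroup K b ⊔ D.rootSubgroup K c ⊔ D.rootSubgroup K (D.neg a) ⊔
    D.rootSubgroup K (D.neg b) ⊔ D.rootSubgroup K (D.neg c)

theorem DA_le_iff {a b c : ℕ} {F : Subgroup (GL D.Idx K)} : DA D K a b c ≤ F ↔
    ∀ i j : Fin 3, i ≠ j → D.rootSubgroup K (rt D a b c i j) ≤ F := by
  unfold DA
  simp only [sup_le_iff]
  constructor
  · rintro ⟨⟨⟨⟨⟨h1, h2⟩, h3⟩, h4⟩, h5⟩, h6⟩ i j hij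
    fin_cases i <;> fin_cases j
    · exact absurd rfl hij
    · exact h1
    · exact h3
    · exact h4
    · exact absurd rfl hij
    · exact h2
    · exact h6
    · exact h5
    · exact absurd rfl hij
  · intro h
    exact ⟨⟨⟨⟨⟨h 0 1 (by decide), h 1 2 (by decide)⟩, h 0 2 (by decide)⟩, h 1 0 (by decide)⟩, h 2 1 (by decide)⟩,
      h 2 0 (by decide)⟩

theorem rt_le_DA {a b c : ℕ} {i j : Fin 3} (hij : i ≠ j) : D.rootSubgroup K (rt D a b c i j) ≤ DA D K a b c :=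
  DA_le_iff.1 le_rfl i j hij

/-- `π : SL₃(K) → DA` -/
structure Pi (hD : InList D) (a b c : ℕ) (π : Matrix.SpecialLinearGroup (Fin 3) K →* GL D.Idx K) : Prop where
  a2 : IsA2 D a b c
  tv : ∀ (i j : Fin 3) (hij : i ≠ j) (u : K), π (Lin.tv hij u) = xG hD (rt D a b c i j) u
  range : π.range = DA D K a b c
  ker : π.ker ≤ center (Matrix.SpecialLinearGroup (Fin 3) K)

theorem exists_Pi (hD : InList D) {a b c : ℕ} (h : IsA2 D a b c) :
    ∃ π : Matrix.SpecialLinearGroup (Fin 3) K →* GL D.Idx K, Pi hD a b c π := by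
  obtain ⟨π, h1, h2, h3⟩ := CTFrame.Hom.exists_hom (rx_stein hD (RingHom.id K) h) (rx_h hD (RingHom.id K) h) (by simp)
  refine ⟨π, h, h1, ?_, h3 ⟨0, 1, by decide, 1, ?_⟩⟩
  · rw [h2]
    apply le_antisymm
    · rw [closure_le]
      rintro g ⟨i, j, hij, t, rfl⟩
      exact rt_le_DA hij (xG_mem_rootSubgroup hD _ _)
    · refine DA_le_iff.2 fun i j hij g hg => ?_
      obtain ⟨t, rfl⟩ := (mem_rootSubgroup_iff hD _ _).1 hg
      exact subset_closure ⟨i, j, hij, t, rfl⟩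
  · unfold rx
    rw [map_one, Ne, xG_eq_one_iff hD (h.lt 0 1 (by decide))]
    exact one_ne_zero

namespace Pi

variable {hD : InList D} {a b c : ℕ} {π : Matrix.SpecialLinearGroup (Fin 3) K →* GL D.Idx K} (P : Pi hD a b c π)

include P

theorem mem_iff {x : GL D.Idx K} : x ∈ DA D K a b c ↔ ∃ A, π A = x := by
  rw [← P.range]
  rfl

theorem pi_mem (A : Matrix.SpecialLinearGroup (Fin 3) K) : π A ∈ DA D K a b c := P.mem_iff.2 ⟨A, rfl⟩

/-- the images of the diagonal matrices -/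
theorem diag2n_mem {i j : Fin 3} (hij : i ≠ j) (u : K) (hu : u ≠ 0) :
    π (Matrix.SpecialLinearGroup.diag2n hij u hu) ∈ D.diagonalSubgroup K := by
  have h1 : π (Matrix.SpecialLinearGroup.diag2n hij u hu) = hG hD (rt D a b c i j) u := by
    rw [LieClassical.SLGen.diag2n_decompose, hG_def, nG_def, nG_def, P.a2.neg i j hij]
    simp only [map_mul]
    have e := fun t => P.tv i j hij t
    have e' := fun t => P.tv j i hij.symm t
    simp only [Lin.tv] at e e'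
    rw [e, e, e', e', inv_neg, inv_one, _root_.neg_neg]
    simp only [mul_assoc]
  rw [h1]
  exact hG_mem hD (P.a2.lt i j hij) hu

/-- diagonal matrices go into the torus -/
theorem t1 (A : Matrix.SpecialLinearGroup (Fin 3) K) (hA : toG A ∈ Dg K) : π A ∈ D.diagonalSubgroup K := by
  obtain ⟨d, hd⟩ := hA
  rw [coe_toG] at hd
  have hdet : d 0 * d 1 * d 2 = 1 := by
    have h1 := A.det_coe
    rw [hd, Matrix.det_diagonal, Fin.prod_univ_three] at h1
    exact h1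
  have h0 : d 0 ≠ 0 := fun h => by rw [h, zero_mul, zero_mul] at hdet; exact zero_ne_one hdet
  have h1 : d 1 ≠ 0 := fun h => by rw [h, mul_zero, zero_mul] at hdet; exact zero_ne_one hdet
  have e : A = Matrix.SpecialLinearGroup.diag2n (show (0 : Fin 3) ≠ 1 by decide) (d 0) h0 *
      Matrix.SpecialLinearGroup.diag2n (show (1 : Fin 3) ≠ 2 by decide) (d 0 * d 1) (mul_ne_zero h0 h1) := by
    apply slext
    rw [cmul, hd]
    show _ = Matrix.diagonal _ * Matrix.diagonal _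
    rw [Matrix.diagonal_mul_diagonal]
    congr 1
    funext i
    fin_cases i
    · simp
    · simp [h0]
    · simp
      field_simp
      linear_combination hdet
  rw [e, map_mul]
  exact mul_mem (P.diag2n_mem _ _ _) (P.diag2n_mem _ _ _)

/-- torus elements act as diagonal matrices -/
theorem t3 (t : GL D.Idx K) (ht : t ∈ D.diagonalSubgroup K) : ∃ δ ∈ Dg K, ActA π t δ := by
  obtain ⟨δ, hδ, hX⟩ := exists_mono (φ := (MulAut.conj t).toMonoidHom.comp π) P.ker 1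
    (fun i j => chi D K t (rt D a b c i j)) (fun i j _ => chi_ne_zero hD ht _) fun i j hij u => by
      show t * π (Lin.tv hij u) * t⁻¹ = π (Lin.tv hij _)
      rw [P.tv, P.tv, tor_conj_xG hD ht (P.a2.lt i j hij)]
  exact ⟨_, mono_one_mem δ hδ, hX⟩

theorem rt_inj {i j k l : Fin 3} (hij : i ≠ j) (hkl : k ≠ l) (h : rt D a b c i j = rt D a b c k l) :
    i = k ∧ j = l := by
  have h1 : π (Lin.tv hij 1) = π (Lin.tv hkl 1) := by rw [P.tv, P.tv, h]
  have h2 := ne_one_of_ker P.ker hij hkl h1 one_ne_zero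
  exact ⟨h2.1, h2.2.1⟩

/-- elements of `N` permuting the six roots act as monomial matrices -/
theorem n1 (n : ↥(D.monomialSubgroup K))
    (hn : ∀ i j (hij : i ≠ j), ∃ k l : Fin 3, k ≠ l ∧
      (permHom hD K n ⟨rt D a b c i j, P.a2.lt i j hij⟩ : ℕ) = rt D a b c k l) :
    ∃ M ∈ Nm K, ActA π (n : GL D.Idx K) M ∨ ActT π (n : GL D.Idx K) M := by
  obtain ⟨l, M, hp⟩ := H3.OT.exists_isType hD
  have hn' : ∀ i j : Fin 3, ∃ x : Fin 3 × Fin 3 × K, ∀ hij : i ≠ j, x.1 ≠ x.2.1 ∧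
      (permHom hD K n ⟨rt D a b c i j, P.a2.lt i j hij⟩ : ℕ) = rt D a b c x.1 x.2.1 ∧ x.2.2 ≠ 0 ∧
      ∀ u, (n : GL D.Idx K) * π (Lin.tv hij u) * (n : GL D.Idx K)⁻¹ = xG hD (rt D a b c x.1 x.2.1) (x.2.2 * u) := by
    intro i j
    by_cases hij : i = j
    · exact ⟨(0, 0, 0), fun h => absurd hij h⟩
    · obtain ⟨k, l, hkl, e⟩ := hn i j hij
      obtain ⟨κ, hκ, e'⟩ := H3.OT.conj_xG hD n ⟨rt D a b c i j, P.a2.lt i j hij⟩
      refine ⟨(k, l, κ), fun _ => ⟨hkl, e, hκ, fun u => ?_⟩⟩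
      rw [P.tv, e', e]
  choose x hx using hn'
  refine exists_act P.ker (fun i j => (x i j).1) (fun i j => (x i j).2.1) (fun i j => (x i j).2.2)
    (fun i j hij => (hx i j hij).1) (fun i j hij => ?_) (fun i j hij => (hx i j hij).2.2.1) fun i j hij u => ?_
  · have h1 := H501.OT.perm_neg hp n ⟨rt D a b c i j, P.a2.lt i j hij⟩
    have h2 := (hx i j hij).2.1
    have h3 := (hx j i hij.symm).2.1
    have h4 : (⟨D.neg (rt D a b c i j), neg_lt hD (P.a2.lt i j hij)⟩ : Fin D.nroots) =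
        ⟨rt D a b c j i, P.a2.lt j i hij.symm⟩ := Fin.ext (P.a2.neg i j hij)
    have h5 : rt D a b c (x j i).1 (x j i).2.1 = rt D a b c (x i j).2.1 (x i j).1 := by
      rw [← h3, ← P.a2.neg _ _ (hx i j hij).1, ← h2, ← h1, ← h4]
    exact P.rt_inj (hx j i hij.symm).1 (hx i j hij).1.symm h5
  · rw [(hx i j hij).2.2.2 u, P.tv]

/-- the torus normalises `DA` -/
theorem mem_sup {x : GL D.Idx K} (hx : x ∈ DA D K a b c ⊔ D.diagonalSubgroup K) :
    ∃ A, ∃ t ∈ D.diagonalSubgroup K, x = π A * t := by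
  have key : ∀ t ∈ D.diagonalSubgroup K, ∀ x ∈ DA D K a b c, t * x * t⁻¹ ∈ DA D K a b c := by
    intro t ht x hx
    obtain ⟨A, rfl⟩ := P.mem_iff.1 hx
    obtain ⟨δ, -, hδ⟩ := P.t3 t ht
    rw [hδ]
    exact P.pi_mem _
  have hn : D.diagonalSubgroup K ≤ normalizer (DA D K a b c : Set (GL D.Idx K)) := by
    intro t ht
    rw [mem_normalizer_iff]
    intro x
    refine ⟨key t ht x, fun hx => ?_⟩
    have h1 := key t⁻¹ (inv_mem ht) _ hx
    have e : t⁻¹ * (t * x * t⁻¹) * t⁻¹⁻¹ = x := by group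
    rwa [e] at h1
  have h1 : x ∈ ((DA D K a b c ⊔ D.diagonalSubgroup K : Subgroup (GL D.Idx K)) : Set (GL D.Idx K)) := hx
  rw [coe_mul_of_right_le_normalizer_left _ _ hn, Set.mem_mul] at h1
  obtain ⟨y, hy, t, ht, e⟩ := h1
  obtain ⟨A, rfl⟩ := P.mem_iff.1 hy
  exact ⟨A, t, ht, e.symm⟩

end Pi

/-- the normal subgroups of `SL₃(K)` -/
theorem sl_normal (N : Subgroup (Matrix.SpecialLinearGroup (Fin 3) K)) [hN : N.Normal] :
    N ≤ center (Matrix.SpecialLinearGroup (Fin 3) K) ∨ N = ⊤ := by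
  have hs : IsSimpleGroup (Matrix.ProjectiveSpecialLinearGroup (Fin 3) K) :=
    LieClassical.SLGen.psl_isSimpleGroup (by simp)
  let f : Matrix.SpecialLinearGroup (Fin 3) K →* Matrix.ProjectiveSpecialLinearGroup (Fin 3) K :=
    QuotientGroup.mk' (center (Matrix.SpecialLinearGroup (Fin 3) K))
  have hf : Function.Surjective f := QuotientGroup.mk'_surjective _
  have hk : f.ker = center (Matrix.SpecialLinearGroup (Fin 3) K) := QuotientGroup.ker_mk' _
  rcases (hN.map f hf).eq_bot_or_eq_top with h1 | h1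
  · left
    rw [← hk]
    intro x hx
    have h2 : f x ∈ N.map f := mem_map_of_mem f hx
    rwa [h1, mem_bot] at h2
  · right
    have key : ∀ g, ∃ n ∈ N, g * n⁻¹ ∈ center (Matrix.SpecialLinearGroup (Fin 3) K) := by
      intro g
      have h2 : f g ∈ N.map f := by rw [h1]; exact mem_top _
      obtain ⟨n, hn, e⟩ := h2
      refine ⟨n, hn, ?_⟩
      rw [← hk, MonoidHom.mem_ker, map_mul, map_inv, e, mul_inv_cancel]
    rw [eq_top_iff, ← LieClassical.SLGen.commutator_eq_top (ι := Fin 3) (F := K) (by simp)]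
    rw [_root_.commutator_def, commutator_le]
    intro g _ g' _
    obtain ⟨n, hn, hz⟩ := key g
    obtain ⟨n', hn', hz'⟩ := key g'
    rw [comm_eq_of_center hz hz', commutatorElement_def]
    exact mul_mem (mul_mem (mul_mem hn hn') (inv_mem hn)) (inv_mem hn')

section Main

variable (hD : InList D) {a b c : ℕ} (h : IsA2 D a b c)

include hD h

/-- **(Q1)** -/
theorem Q1 (h2 : (2 : K) ≠ 0) {x : GL D.Idx K} (hx : x ∈ DA D K a b c ⊔ D.diagonalSubgroup K)
    (hc : ∀ y ∈ DA D K a b c, x ^ 2 * y = y * x ^ 2) :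
    ∃ d ∈ DA D K a b c, d * x * d⁻¹ ∈ D.diagonalSubgroup K := by
  obtain ⟨π, P⟩ := exists_Pi (K := K) hD h
  obtain ⟨A₀, t, ht, rfl⟩ := P.mem_sup hx
  obtain ⟨A, hA⟩ := q1 P.ker h2 P.t1 P.t3 (A₀ := A₀) ht fun X => by
    have h1 := hc _ (P.pi_mem X)
    rwa [pow_two] at h1
  exact ⟨π A, P.pi_mem A, hA⟩

/-- **(Q2)** -/
theorem Q2 (h2 : (2 : K) ≠ 0) {d : GL D.Idx K} (hd : d ∈ DA D K a b c) (n : ↥(D.monomialSubgroup K))
    (hn : ∀ i j (hij : i ≠ j), ∃ k l : Fin 3, k ≠ l ∧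
      (permHom hD K n ⟨rt D a b c i j, h.lt i j hij⟩ : ℕ) = rt D a b c k l)
    (hc : ∀ y ∈ DA D K a b c, (d * n) ^ 2 * y = y * (d * n) ^ 2) :
    ∃ e ∈ DA D K a b c, e * (d * n) * e⁻¹ ∈ normalizer (D.diagonalSubgroup K : Set (GL D.Idx K)) := by
  obtain ⟨π, P⟩ := exists_Pi (K := K) hD h
  obtain ⟨A₀, rfl⟩ := P.mem_iff.1 hd
  obtain ⟨M, hM, hact⟩ := P.n1 n hn
  obtain ⟨A, hA⟩ := q2 P.ker h2 P.t1 P.t3 (A₀ := A₀) (n := (n : GL D.Idx K)) (NConj.monomial_le_normalizer hD K n.2) hM hact fun X => by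
    have h1 := hc _ (P.pi_mem X)
    rwa [pow_two] at h1
  exact ⟨π A, P.pi_mem A, hA⟩

/-- **(Q3)** `DA` is perfect -/
theorem DA_perfect : ⁅DA D K a b c, DA D K a b c⁆ = DA D K a b c := by
  obtain ⟨π, P⟩ := exists_Pi (K := K) hD h
  have h1 := LieClassical.SLGen.commutator_eq_top (ι := Fin 3) (F := K) (by simp)
  rw [← P.range, MonoidHom.range_eq_map, ← map_commutator]
  congr 1

/-- **(Q3)** the normal subgroups of `DA` -/
theorem DA_normal {N : Subgroup (GL D.Idx K)} (hN : N ≤ DA D K a b c)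
    (hn : ∀ x ∈ DA D K a b c, ∀ y ∈ N, x * y * x⁻¹ ∈ N) :
    N = DA D K a b c ∨ ∀ y ∈ N, ∀ x ∈ DA D K a b c, x * y = y * x := by
  obtain ⟨π, P⟩ := exists_Pi (K := K) hD h
  have h1 : (N.comap π).Normal := ⟨fun A hA B => by
    rw [mem_comap] at hA ⊢
    rw [map_mul, map_mul, map_inv]
    exact hn _ (P.pi_mem B) _ hA⟩
  rcases sl_normal (N.comap π) with h2 | h2
  · right
    intro y hy x hx
    obtain ⟨A, rfl⟩ := P.mem_iff.1 (hN hy)
    obtain ⟨B, rfl⟩ := P.mem_iff.1 hx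
    rw [← map_mul, ← map_mul, mem_center_iff.1 (h2 (show A ∈ N.comap π from hy)) B]
  · left
    refine le_antisymm hN fun x hx => ?_
    obtain ⟨B, rfl⟩ := P.mem_iff.1 hx
    have h3 : B ∈ N.comap π := by rw [h2]; exact mem_top _
    exact h3

end Main

end Cfsg.Agent.H428.OT
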