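import Cfsg.Agent.H428.OT.Lin
import Cfsg.Agent.LieClassical.SLGen

/-!
# Elements acting on the image of `SL₃(K)` (helper428), for S2539

`π : SL₃(K) →* G`, kernel central.

* `cjS H X = H X H⁻¹`, `ti X = (X⁻¹)ᵀ`; `ActA π g H : g π(X) g⁻¹ = π(H X H⁻¹)`, `ActT π g H : g π(X) g⁻¹ = π(H (X⁻¹)ᵀ H⁻¹)`;
* `scalar_of` : an element acting trivially acts as a scalar matrix;
* `exists_diag` : `g` acts as `H`, `g ^ 2` acts trivially: some `π A * g * (π A)⁻¹` acts as a diagonal matrix;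
* `exists_diagT` : the same for `ActT`.
-/

set_option autoImplicit false

namespace Cfsg.Agent.H428.OT.Lin

open Matrix
open scoped commutatorElement

universe u v

variable {K : Type u} [Field K] {G : Type v} [Group G]

theorem slext {A B : SpecialLinearGroup (Fin 3) K} (h : (A : Matrix (Fin 3) (Fin 3) K) = B) : A = B := Subtype.ext h

theorem cmul (A B : SpecialLinearGroup (Fin 3) K) :
    ((A * B : SpecialLinearGroup (Fin 3) K) : Matrix (Fin 3) (Fin 3) K) =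
      (A : Matrix (Fin 3) (Fin 3) K) * (B : Matrix (Fin 3) (Fin 3) K) := rfl

theorem cone : ((1 : SpecialLinearGroup (Fin 3) K) : Matrix (Fin 3) (Fin 3) K) = 1 := rfl

/-- conjugation by a matrix -/
def cjS (H : GL (Fin 3) K) : SpecialLinearGroup (Fin 3) K →* SpecialLinearGroup (Fin 3) K where
  toFun X := ⟨(H : Matrix (Fin 3) (Fin 3) K) * (X : Matrix (Fin 3) (Fin 3) K) *
      ((H⁻¹ : GL (Fin 3) K) : Matrix (Fin 3) (Fin 3) K), by
    rw [det_mul, det_mul, X.det_coe, mul_one, ← det_mul, ← Units.val_mul, mul_inv_cancel, Units.val_one, det_one]⟩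
  map_one' := by
    apply Subtype.ext
    show (H : Matrix (Fin 3) (Fin 3) K) * 1 * ((H⁻¹ : GL (Fin 3) K) : Matrix (Fin 3) (Fin 3) K) = 1
    rw [mul_one, ← Units.val_mul, mul_inv_cancel, Units.val_one]
  map_mul' X Y := by
    apply Subtype.ext
    show (H : Matrix (Fin 3) (Fin 3) K) * ((X : Matrix (Fin 3) (Fin 3) K) * Y) *
        ((H⁻¹ : GL (Fin 3) K) : Matrix (Fin 3) (Fin 3) K) =
      (H : Matrix (Fin 3) (Fin 3) K) * X * ((H⁻¹ : GL (Fin 3) K) : Matrix (Fin 3) (Fin 3) K) *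
        ((H : Matrix (Fin 3) (Fin 3) K) * Y * ((H⁻¹ : GL (Fin 3) K) : Matrix (Fin 3) (Fin 3) K))
    have h1 : ((H⁻¹ : GL (Fin 3) K) : Matrix (Fin 3) (Fin 3) K) * (H : Matrix (Fin 3) (Fin 3) K) = 1 := by
      rw [← Units.val_mul, inv_mul_cancel, Units.val_one]
    calc _ = (H : Matrix (Fin 3) (Fin 3) K) * X * 1 * (Y * ((H⁻¹ : GL (Fin 3) K) : Matrix (Fin 3) (Fin 3) K)) := by
          rw [mul_one]; simp only [mul_assoc]
      _ = _ := by rw [← h1]; simp only [mul_assoc]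

theorem coe_cjS (H : GL (Fin 3) K) (X : SpecialLinearGroup (Fin 3) K) :
    ((cjS H X : SpecialLinearGroup (Fin 3) K) : Matrix (Fin 3) (Fin 3) K) =
      (H : Matrix (Fin 3) (Fin 3) K) * (X : Matrix (Fin 3) (Fin 3) K) *
        ((H⁻¹ : GL (Fin 3) K) : Matrix (Fin 3) (Fin 3) K) := rfl

theorem cjS_mul (H H' : GL (Fin 3) K) (X : SpecialLinearGroup (Fin 3) K) : cjS (H * H') X = cjS H (cjS H' X) := by
  apply slext
  rw [coe_cjS, coe_cjS, coe_cjS, _root_.mul_inv_rev, Units.val_mul, Units.val_mul]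
  simp only [mul_assoc]

theorem cjS_one (X : SpecialLinearGroup (Fin 3) K) : cjS (1 : GL (Fin 3) K) X = X := by
  apply slext
  rw [coe_cjS, inv_one, Units.val_one, one_mul, mul_one]

/-- `SL₃ → GL₃` -/
def toG (A : SpecialLinearGroup (Fin 3) K) : GL (Fin 3) K where
  val := A
  inv := (A⁻¹ : SpecialLinearGroup (Fin 3) K)
  val_inv := by
    show (A : Matrix (Fin 3) (Fin 3) K) * ((A⁻¹ : SpecialLinearGroup (Fin 3) K) : Matrix (Fin 3) (Fin 3) K) = 1
    rw [← cmul, mul_inv_cancel, cone]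
  inv_val := by
    show ((A⁻¹ : SpecialLinearGroup (Fin 3) K) : Matrix (Fin 3) (Fin 3) K) * (A : Matrix (Fin 3) (Fin 3) K) = 1
    rw [← cmul, inv_mul_cancel, cone]

@[simp] theorem coe_toG (A : SpecialLinearGroup (Fin 3) K) :
    ((toG A : GL (Fin 3) K) : Matrix (Fin 3) (Fin 3) K) = A := rfl

theorem cjS_toG (A X : SpecialLinearGroup (Fin 3) K) : cjS (toG A) X = A * X * A⁻¹ := by
  apply slext
  rfl

/-- inverse transpose -/
def ti : SpecialLinearGroup (Fin 3) K →* SpecialLinearGroup (Fin 3) K where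
  toFun X := SpecialLinearGroup.transpose X⁻¹
  map_one' := by
    apply slext
    show (((1 : SpecialLinearGroup (Fin 3) K)⁻¹ : SpecialLinearGroup (Fin 3) K) : Matrix (Fin 3) (Fin 3) K)ᵀ = 1
    rw [inv_one, cone, transpose_one]
  map_mul' X Y := by
    apply slext
    show (((X * Y)⁻¹ : SpecialLinearGroup (Fin 3) K) : Matrix (Fin 3) (Fin 3) K)ᵀ =
      ((X⁻¹ : SpecialLinearGroup (Fin 3) K) : Matrix (Fin 3) (Fin 3) K)ᵀ *
        ((Y⁻¹ : SpecialLinearGroup (Fin 3) K) : Matrix (Fin 3) (Fin 3) K)ᵀ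
    rw [_root_.mul_inv_rev, cmul, transpose_mul]

theorem coe_ti (X : SpecialLinearGroup (Fin 3) K) :
    ((ti X : SpecialLinearGroup (Fin 3) K) : Matrix (Fin 3) (Fin 3) K) =
      ((X⁻¹ : SpecialLinearGroup (Fin 3) K) : Matrix (Fin 3) (Fin 3) K)ᵀ := rfl

/-- inverse transpose on `GL₃` -/
def tiG (H : GL (Fin 3) K) : GL (Fin 3) K where
  val := ((H⁻¹ : GL (Fin 3) K) : Matrix (Fin 3) (Fin 3) K)ᵀ
  inv := (H : Matrix (Fin 3) (Fin 3) K)ᵀ
  val_inv := by rw [← transpose_mul, ← Units.val_mul, mul_inv_cancel, Units.val_one, transpose_one]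
  inv_val := by rw [← transpose_mul, ← Units.val_mul, inv_mul_cancel, Units.val_one, transpose_one]

theorem coe_tiG (H : GL (Fin 3) K) : ((tiG H : GL (Fin 3) K) : Matrix (Fin 3) (Fin 3) K) =
    ((H⁻¹ : GL (Fin 3) K) : Matrix (Fin 3) (Fin 3) K)ᵀ := rfl

theorem coe_tiG_inv (H : GL (Fin 3) K) : (((tiG H)⁻¹ : GL (Fin 3) K) : Matrix (Fin 3) (Fin 3) K) =
    (H : Matrix (Fin 3) (Fin 3) K)ᵀ := rfl

theorem cjS_inv (H : GL (Fin 3) K) (X : SpecialLinearGroup (Fin 3) K) : (cjS H X)⁻¹ = cjS H X⁻¹ :=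
  (map_inv (cjS H) X).symm

theorem ti_cjS (H : GL (Fin 3) K) (X : SpecialLinearGroup (Fin 3) K) : ti (cjS H X) = cjS (tiG H) (ti X) := by
  apply slext
  rw [coe_ti, cjS_inv, coe_cjS, coe_cjS, coe_tiG, coe_tiG_inv, coe_ti, transpose_mul, transpose_mul, mul_assoc]

theorem ti_ti (X : SpecialLinearGroup (Fin 3) K) : ti (ti X) = X := by
  apply slext
  rw [coe_ti, ← map_inv ti, coe_ti, inv_inv, transpose_transpose]

theorem tiG_toG (A : SpecialLinearGroup (Fin 3) K) : tiG (toG A) = toG (ti A) := by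
  apply Units.ext
  rw [coe_tiG, coe_toG, coe_ti]
  rfl

variable (π : SpecialLinearGroup (Fin 3) K →* G)

/-- `g` acts on the image as the matrix `H`. -/
def ActA (g : G) (H : GL (Fin 3) K) : Prop := ∀ X, g * π X * g⁻¹ = π (cjS H X)

/-- `g` acts on the image as inverse transpose followed by the matrix `H`. -/
def ActT (g : G) (H : GL (Fin 3) K) : Prop := ∀ X, g * π X * g⁻¹ = π (cjS H (ti X))

variable {π}

theorem actA_pi (A : SpecialLinearGroup (Fin 3) K) : ActA π (π A) (toG A) := fun X => by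
  rw [cjS_toG, map_mul, map_mul, map_inv]

theorem ActA.mul {g g' : G} {H H' : GL (Fin 3) K} (h : ActA π g H) (h' : ActA π g' H') :
    ActA π (g * g') (H * H') := fun X => by
  have e : g * g' * π X * (g * g')⁻¹ = g * (g' * π X * g'⁻¹) * g⁻¹ := by group
  rw [e, h' X, h, cjS_mul]

theorem ActA.mulT {g g' : G} {H H' : GL (Fin 3) K} (h : ActA π g H) (h' : ActT π g' H') :
    ActT π (g * g') (H * H') := fun X => by
  have e : g * g' * π X * (g * g')⁻¹ = g * (g' * π X * g'⁻¹) * g⁻¹ := by group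
  rw [e, h' X, h, cjS_mul]

theorem ActT.mul {g g' : G} {H H' : GL (Fin 3) K} (h : ActT π g H) (h' : ActA π g' H') :
    ActT π (g * g') (H * tiG H') := fun X => by
  have e : g * g' * π X * (g * g')⁻¹ = g * (g' * π X * g'⁻¹) * g⁻¹ := by group
  rw [e, h' X, h, ti_cjS, cjS_mul]

theorem ActT.mulT {g g' : G} {H H' : GL (Fin 3) K} (h : ActT π g H) (h' : ActT π g' H') :
    ActA π (g * g') (H * tiG H') := fun X => by
  have e : g * g' * π X * (g * g')⁻¹ = g * (g' * π X * g'⁻¹) * g⁻¹ := by group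
  rw [e, h' X, h, ti_cjS, ti_ti, cjS_mul]

theorem ActA.inv {g : G} {H : GL (Fin 3) K} (h : ActA π g H) : ActA π g⁻¹ H⁻¹ := fun X => by
  have h1 := h (cjS H⁻¹ X)
  rw [← cjS_mul, mul_inv_cancel, cjS_one] at h1
  rw [← h1]
  group

/-- every transvection is a commutator of transvections -/
theorem exists_comm {i j : Fin 3} (hij : i ≠ j) (c : K) : ∃ X Y : SpecialLinearGroup (Fin 3) K,
    SpecialLinearGroup.transvection hij c = ⁅X, Y⁆ := by
  obtain ⟨k, hik, hkj⟩ : ∃ k : Fin 3, i ≠ k ∧ k ≠ j := by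
    revert i j
    decide
  refine ⟨SpecialLinearGroup.transvection hik c, SpecialLinearGroup.transvection hkj 1, ?_⟩
  rw [LieClassical.SLGen.commutator_transvection hij hik hkj, mul_one]

theorem comm_eq_of_center {G : Type*} [Group G] {a b x y : G} (ha : a * x⁻¹ ∈ Subgroup.center G)
    (hb : b * y⁻¹ ∈ Subgroup.center G) : ⁅a, b⁆ = ⁅x, y⁆ := by
  obtain ⟨z, hz, e⟩ : ∃ z ∈ Subgroup.center G, a = z * x := ⟨a * x⁻¹, ha, by group⟩
  obtain ⟨w, hw, e'⟩ : ∃ w ∈ Subgroup.center G, b = w * y := ⟨b * y⁻¹, hb, by group⟩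
  have hz' : ∀ g, g * z = z * g := Subgroup.mem_center_iff.1 hz
  have hw' : ∀ g, g * w = w * g := Subgroup.mem_center_iff.1 hw
  have hz'' : ∀ g, g * z⁻¹ = z⁻¹ * g := Subgroup.mem_center_iff.1 (inv_mem hz)
  have hw'' : ∀ g, g * w⁻¹ = w⁻¹ * g := Subgroup.mem_center_iff.1 (inv_mem hw)
  rw [commutatorElement_def, commutatorElement_def, e, e', _root_.mul_inv_rev, _root_.mul_inv_rev]
  calc z * x * (w * y) * (x⁻¹ * z⁻¹) * (y⁻¹ * w⁻¹)
      = z * (x * w) * y * (x⁻¹ * z⁻¹) * y⁻¹ * w⁻¹ := by group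
    _ = z * w * x * y * (z⁻¹ * x⁻¹) * y⁻¹ * w⁻¹ := by rw [hw' x, hz'' x⁻¹]; group
    _ = z * w * ((x * y) * z⁻¹) * x⁻¹ * y⁻¹ * w⁻¹ := by group
    _ = z * w * (z⁻¹ * (x * y)) * x⁻¹ * y⁻¹ * w⁻¹ := by rw [hz'' (x * y)]
    _ = z * w * z⁻¹ * ((x * y * x⁻¹ * y⁻¹) * w⁻¹) := by group
    _ = z * w * z⁻¹ * (w⁻¹ * (x * y * x⁻¹ * y⁻¹)) := by rw [hw'' (x * y * x⁻¹ * y⁻¹)]
    _ = z * (w * z⁻¹) * w⁻¹ * (x * y * x⁻¹ * y⁻¹) := by group
    _ = z * (z⁻¹ * w) * w⁻¹ * (x * y * x⁻¹ * y⁻¹) := by rw [hz'' w]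
    _ = x * y * x⁻¹ * y⁻¹ := by group

/-- **A matrix acting trivially modulo the centre is scalar.** -/
theorem scalar_of' {H : GL (Fin 3) K} (h1 : ∀ X, cjS H X * X⁻¹ ∈ Subgroup.center (SpecialLinearGroup (Fin 3) K)) :
    ∃ μ : K, (H : Matrix (Fin 3) (Fin 3) K) = scalar (Fin 3) μ := by
  have h2 : ∀ {i j : Fin 3} (hij : i ≠ j) (c : K),
      cjS H (SpecialLinearGroup.transvection hij c) = SpecialLinearGroup.transvection hij c := by
    intro i j hij c
    obtain ⟨X, Y, e⟩ := exists_comm hij c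
    rw [e, map_commutatorElement]
    exact comm_eq_of_center (h1 X) (h1 Y)
  obtain ⟨μ, hμ⟩ := mem_range_scalar_of_commute_transvectionStruct (M := (H : Matrix (Fin 3) (Fin 3) K)) fun t => by
    have h3 := congrArg (fun A : SpecialLinearGroup (Fin 3) K => (A : Matrix (Fin 3) (Fin 3) K)) (h2 t.hij t.c)
    have h4 : ((SpecialLinearGroup.transvection t.hij t.c : SpecialLinearGroup (Fin 3) K) : Matrix (Fin 3) (Fin 3) K) =
        t.toMatrix := rfl
    simp only [coe_cjS, h4] at h3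
    show t.toMatrix * (H : Matrix (Fin 3) (Fin 3) K) = (H : Matrix (Fin 3) (Fin 3) K) * t.toMatrix
    have h5 : ((H⁻¹ : GL (Fin 3) K) : Matrix (Fin 3) (Fin 3) K) * (H : Matrix (Fin 3) (Fin 3) K) = 1 := by
      rw [← Units.val_mul, inv_mul_cancel, Units.val_one]
    nth_rewrite 1 [← h3]
    rw [mul_assoc, h5, mul_one]
  exact ⟨μ, hμ.symm⟩

theorem cjS_mem_center (H : GL (Fin 3) K) {z : SpecialLinearGroup (Fin 3) K}
    (hz : z ∈ Subgroup.center (SpecialLinearGroup (Fin 3) K)) :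
    cjS H z ∈ Subgroup.center (SpecialLinearGroup (Fin 3) K) := by
  rw [Subgroup.mem_center_iff] at hz ⊢
  intro g
  have h1 : g = cjS H (cjS H⁻¹ g) := by rw [← cjS_mul, mul_inv_cancel, cjS_one]
  rw [h1, ← map_mul, ← map_mul, hz]

variable (hker : π.ker ≤ Subgroup.center (SpecialLinearGroup (Fin 3) K))

include hker

/-- two matrices with the same action differ by a scalar matrix -/
theorem scalar_of_eq {H H' : GL (Fin 3) K} (h : ∀ X, π (cjS H X) = π (cjS H' X)) :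
    ∃ μ : K, ((H'⁻¹ * H : GL (Fin 3) K) : Matrix (Fin 3) (Fin 3) K) = scalar (Fin 3) μ := by
  refine scalar_of' fun X => ?_
  have h1 : cjS H X * (cjS H' X)⁻¹ ∈ Subgroup.center (SpecialLinearGroup (Fin 3) K) := hker (by
    rw [MonoidHom.mem_ker, map_mul, map_inv, h, mul_inv_cancel])
  have h2 := cjS_mem_center H'⁻¹ h1
  rwa [map_mul, map_inv, ← cjS_mul, ← cjS_mul, inv_mul_cancel, cjS_one] at h2

/-- **A matrix acting trivially modulo the kernel is scalar.** -/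
theorem scalar_of {H : GL (Fin 3) K} (h : ∀ X, π (cjS H X) = π X) :
    ∃ μ : K, (H : Matrix (Fin 3) (Fin 3) K) = scalar (Fin 3) μ :=
  scalar_of' fun X => hker (by rw [MonoidHom.mem_ker, map_mul, map_inv, h, mul_inv_cancel])

theorem ActA.scalar_of {g : G} {H : GL (Fin 3) K} (h : ActA π g H) (hc : ∀ X, g * π X = π X * g) :
    ∃ μ : K, (H : Matrix (Fin 3) (Fin 3) K) = scalar (Fin 3) μ := by
  refine Lin.scalar_of hker fun X => ?_
  rw [← h X, hc, mul_inv_cancel_right]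

end Cfsg.Agent.H428.OT.Lin
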