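import Cfsg.Agent.H428.OT.Act

/-!
# Elements acting on the image of `SL₃(K)`, II (helper428), for S2539

* `Dg`, `Nm` : the diagonal matrices of `GL₃(K)` and their normaliser;
* `ActA.exists_diag`, `ActT.exists_diag` : `g ^ 2` acts trivially: `g` acts as a diagonal matrix after a conjugation;
* `q1`, `q2` : the abstract forms of the facts (Q1), (Q2).
-/

set_option autoImplicit false

namespace Cfsg.Agent.H428.OT.Lin

open Matrix
open scoped commutatorElement

universe u v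

variable {K : Type u} [Field K] {G : Type v} [Group G]

theorem gext {A B : GL (Fin 3) K} (h : (A : Matrix (Fin 3) (Fin 3) K) = B) : A = B := Units.ext h

theorem det_ne (H : GL (Fin 3) K) : (H : Matrix (Fin 3) (Fin 3) K).det ≠ 0 := by
  have h1 : (H : Matrix (Fin 3) (Fin 3) K).det * ((H⁻¹ : GL (Fin 3) K) : Matrix (Fin 3) (Fin 3) K).det = 1 := by
    rw [← det_mul, ← Units.val_mul, mul_inv_cancel, Units.val_one, det_one]
  exact left_ne_zero_of_mul_eq_one h1

variable (K) in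
/-- the diagonal matrices -/
def Dg : Subgroup (GL (Fin 3) K) where
  carrier := {H | ∃ d : Fin 3 → K, (H : Matrix (Fin 3) (Fin 3) K) = diagonal d}
  one_mem' := ⟨1, by rw [Units.val_one]; exact diagonal_one.symm⟩
  mul_mem' := by
    rintro A B ⟨d, hd⟩ ⟨e, he⟩
    exact ⟨fun i => d i * e i, by rw [Units.val_mul, hd, he, diagonal_mul_diagonal]⟩
  inv_mem' := by
    rintro A ⟨d, hd⟩
    have h0 : ∀ i, d i ≠ 0 := by
      have h1 := det_ne A
      rw [hd, det_diagonal] at h1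
      exact fun i => (Finset.prod_ne_zero_iff.1 h1) i (Finset.mem_univ i)
    refine ⟨fun i => (d i)⁻¹, ?_⟩
    have h2 : (A : Matrix (Fin 3) (Fin 3) K) * diagonal (fun i => (d i)⁻¹) = 1 := by
      rw [hd, diagonal_mul_diagonal, ← diagonal_one]
      congr 1
      funext i
      exact mul_inv_cancel₀ (h0 i)
    calc ((A⁻¹ : GL (Fin 3) K) : Matrix (Fin 3) (Fin 3) K)
        = ((A⁻¹ : GL (Fin 3) K) : Matrix (Fin 3) (Fin 3) K) * ((A : Matrix (Fin 3) (Fin 3) K) *
            diagonal (fun i => (d i)⁻¹)) := by rw [h2, mul_one]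
      _ = diagonal (fun i => (d i)⁻¹) := by
        rw [← mul_assoc, ← Units.val_mul, inv_mul_cancel, Units.val_one, one_mul]

theorem mem_Dg {H : GL (Fin 3) K} : H ∈ Dg K ↔ ∃ d : Fin 3 → K, (H : Matrix (Fin 3) (Fin 3) K) = diagonal d := Iff.rfl

theorem mem_Dg_of_scalar {H : GL (Fin 3) K} (h : ∃ μ : K, (H : Matrix (Fin 3) (Fin 3) K) = scalar (Fin 3) μ) :
    H ∈ Dg K := by
  obtain ⟨μ, h⟩ := h
  exact ⟨fun _ => μ, h⟩

variable (K) in
/-- the normaliser of the diagonal matrices -/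
def Nm : Subgroup (GL (Fin 3) K) := Subgroup.normalizer (Dg K : Set (GL (Fin 3) K))

theorem Dg_le_Nm : Dg K ≤ Nm K := Subgroup.le_normalizer

theorem conj_mem_Dg {M H : GL (Fin 3) K} (hM : M ∈ Nm K) (hH : H ∈ Dg K) : M * H * M⁻¹ ∈ Dg K :=
  (Subgroup.mem_normalizer_iff.1 hM H).1 hH

variable {π : SpecialLinearGroup (Fin 3) K →* G} (hker : π.ker ≤ Subgroup.center (SpecialLinearGroup (Fin 3) K))

include hker

/-- **`g ^ 2` acts trivially (inner case).** -/
theorem ActA.exists_diag (h2 : (2 : K) ≠ 0) {g : G} {H : GL (Fin 3) K} (h : ActA π g H)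
    (hc : ∀ X, g * g * π X = π X * (g * g)) :
    ∃ A : SpecialLinearGroup (Fin 3) K, ∃ E ∈ Dg K, ActA π (π A * g * (π A)⁻¹) E := by
  obtain ⟨μ, hμ⟩ := (h.mul h).scalar_of hker hc
  rw [Units.val_mul] at hμ
  have hdet : (H : Matrix (Fin 3) (Fin 3) K).det ≠ 0 := det_ne H
  set M : Matrix (Fin 3) (Fin 3) K := (H : Matrix (Fin 3) (Fin 3) K) with hM
  have hd2 : M.det * M.det = μ ^ 3 := by
    rw [← det_mul, hμ]
    simp
  have hμ0 : μ ≠ 0 := by
    rintro rfl
    rw [zero_pow (by decide)] at hd2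
    exact hdet (mul_self_eq_zero.1 hd2)
  have hν : (M.det / μ) * (M.det / μ) = μ := by
    field_simp
    linear_combination hd2
  have hν0 : M.det / μ ≠ 0 := div_ne_zero hdet hμ0
  set ν := M.det / μ with hνd
  obtain ⟨B, e, he⟩ := exists_diag_of_invol h2 (H := ν⁻¹ • M) (by
    rw [smul_mul_smul_comm, hμ, ← mul_inv, hν]
    ext i j
    by_cases hij : i = j
    · subst hij
      simp [inv_mul_cancel₀ hμ0]
    · simp [hij])
  refine ⟨B, toG B * H * (toG B)⁻¹, ?_, ((actA_pi B).mul h).mul ?_⟩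
  · refine ⟨fun i => ν * e i, ?_⟩
    have h1 : (B : Matrix (Fin 3) (Fin 3) K) * M = diagonal (fun i => ν * e i) * B := by
      rw [mul_smul_comm] at he
      have h3 := congrArg (fun X => ν • X) he
      simp only [smul_smul, mul_inv_cancel₀ hν0, one_smul] at h3
      rw [h3]
      ext i j
      simp [mul_assoc]
    rw [Units.val_mul, Units.val_mul, coe_toG, ← hM, h1, mul_assoc, ← coe_toG B, ← Units.val_mul, mul_inv_cancel,
      Units.val_one, mul_one]
  · rw [← map_inv]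
    have h4 := actA_pi (π := π) B⁻¹
    have h5 : toG B⁻¹ = (toG B)⁻¹ := by
      apply gext
      rfl
    rwa [h5] at h4

/-- **`g ^ 2` acts trivially (graph case).** -/
theorem ActT.exists_diag (h2 : (2 : K) ≠ 0) {g : G} {H : GL (Fin 3) K} (h : ActT π g H)
    (hc : ∀ X, g * g * π X = π X * (g * g)) :
    ∃ A : SpecialLinearGroup (Fin 3) K, ∃ E ∈ Dg K, ActT π (π A * g * (π A)⁻¹) E := by
  obtain ⟨μ, hμ⟩ := (h.mulT h).scalar_of hker hc
  have hdet : (H : Matrix (Fin 3) (Fin 3) K).det ≠ 0 := det_ne H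
  rw [Units.val_mul, coe_tiG] at hμ
  have h1 : (H : Matrix (Fin 3) (Fin 3) K) = μ • (H : Matrix (Fin 3) (Fin 3) K)ᵀ := by
    have h3 : ((H⁻¹ : GL (Fin 3) K) : Matrix (Fin 3) (Fin 3) K)ᵀ * (H : Matrix (Fin 3) (Fin 3) K)ᵀ = 1 := by
      rw [← transpose_mul, ← Units.val_mul, mul_inv_cancel, Units.val_one, transpose_one]
    calc (H : Matrix (Fin 3) (Fin 3) K)
        = H * (((H⁻¹ : GL (Fin 3) K) : Matrix (Fin 3) (Fin 3) K)ᵀ * (H : Matrix (Fin 3) (Fin 3) K)ᵀ) := by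
          rw [h3, mul_one]
      _ = scalar (Fin 3) μ * (H : Matrix (Fin 3) (Fin 3) K)ᵀ := by rw [← mul_assoc, hμ]
      _ = _ := by
        rw [scalar_apply]
        ext i j
        simp
  set M : Matrix (Fin 3) (Fin 3) K := (H : Matrix (Fin 3) (Fin 3) K) with hM
  have hT : Mᵀ = μ • M := by
    conv_lhs => rw [h1]
    rw [transpose_smul, transpose_transpose]
  have hμ2 : μ * μ = 1 := by
    have h3 : M = (μ * μ) • M := by
      conv_lhs => rw [h1, hT, smul_smul]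
    by_contra hne
    apply hdet
    have h4 : M = 0 := by
      have h5 : (μ * μ - 1) • M = 0 := by
        rw [sub_smul, one_smul, ← h3, sub_self]
      exact (smul_eq_zero.1 h5).resolve_left (sub_ne_zero.2 hne)
    rw [h4, det_zero]
  have hsym : Mᵀ = M := by
    rcases mul_self_eq_one_iff.1 hμ2 with h3 | h3
    · rw [hT, h3, one_smul]
    · exact absurd (det_eq_zero_of_skew h2 (by rw [hT, h3, neg_one_smul])) hdet
  obtain ⟨B, e, he⟩ := exists_diag_of_symm h2 hsym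
  refine ⟨B, toG B * H * tiG (toG B)⁻¹, ⟨e, ?_⟩, ((actA_pi B).mulT h).mul ?_⟩
  · rw [Units.val_mul, Units.val_mul, coe_toG, coe_tiG, inv_inv, coe_toG, ← hM, he]
  · rw [← map_inv]
    have h4 := actA_pi (π := π) B⁻¹
    have h5 : toG B⁻¹ = (toG B)⁻¹ := by
      apply gext
      rfl
    rwa [h5] at h4

/-- two matrices with the same action differ by a diagonal (scalar) matrix -/
theorem act_eq {H H' : GL (Fin 3) K} (h : ∀ X, π (cjS H X) = π (cjS H' X)) : H'⁻¹ * H ∈ Dg K :=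
  mem_Dg_of_scalar (scalar_of_eq hker h)

/-- **(Q1), abstract.** -/
theorem q1 (h2 : (2 : K) ≠ 0) {T : Subgroup G}
    (t1 : ∀ A : SpecialLinearGroup (Fin 3) K, toG A ∈ Dg K → π A ∈ T)
    (t3 : ∀ t ∈ T, ∃ δ ∈ Dg K, ActA π t δ) {A₀ : SpecialLinearGroup (Fin 3) K} {t : G} (ht : t ∈ T)
    (hc : ∀ X, π A₀ * t * (π A₀ * t) * π X = π X * (π A₀ * t * (π A₀ * t))) :
    ∃ A, π A * (π A₀ * t) * (π A)⁻¹ ∈ T := by
  obtain ⟨δ, hδ, hact⟩ := t3 t ht
  obtain ⟨A, E, hE, h⟩ := ((actA_pi A₀).mul hact).exists_diag hker h2 hc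
  refine ⟨A, ?_⟩
  have h1 : π A * (π A₀ * t) * (π A)⁻¹ = π (A * A₀ * cjS δ A⁻¹) * t := by
    rw [map_mul, map_mul, ← hact, map_inv]
    group
  have h3 : toG (A * A₀ * cjS δ A⁻¹) ∈ Dg K := by
    rw [h1] at h
    have h4 := act_eq hker (H := toG (A * A₀ * cjS δ A⁻¹) * δ) (H' := E) fun X => by
      rw [← (actA_pi _).mul hact X, ← h X]
    have h5 := mul_mem (mul_mem hE h4) (inv_mem hδ)
    rwa [mul_inv_cancel_left, mul_inv_cancel_right] at h5
  rw [h1]
  exact mul_mem (t1 _ h3) ht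

omit hker in
theorem pi_mem_normalizer {T : Subgroup G} (t1 : ∀ A : SpecialLinearGroup (Fin 3) K, toG A ∈ Dg K → π A ∈ T)
    (t3 : ∀ t ∈ T, ∃ δ ∈ Dg K, ActA π t δ) {A : SpecialLinearGroup (Fin 3) K} (hA : toG A ∈ Nm K) :
    π A ∈ Subgroup.normalizer (T : Set G) := by
  have key : ∀ A : SpecialLinearGroup (Fin 3) K, toG A ∈ Nm K → ∀ t ∈ T, π A * t * (π A)⁻¹ ∈ T := by
    intro A hA t ht
    obtain ⟨δ, hδ, hact⟩ := t3 t ht
    have h1 : π A * t * (π A)⁻¹ = π (A * cjS δ A⁻¹) * t := by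
      rw [map_mul, ← hact, map_inv]
      group
    rw [h1]
    refine mul_mem (t1 _ ?_) ht
    have h2 : toG (A * cjS δ A⁻¹) = toG A * δ * (toG A)⁻¹ * δ⁻¹ := by
      apply gext
      rw [coe_toG, cmul, coe_cjS, Units.val_mul, Units.val_mul, Units.val_mul, coe_toG]
      simp only [mul_assoc]
      rfl
    rw [h2]
    exact mul_mem (conj_mem_Dg hA hδ) (inv_mem hδ)
  rw [Subgroup.mem_normalizer_iff]
  intro t
  refine ⟨key A hA t, fun h => ?_⟩
  have h3 : toG A⁻¹ = (toG A)⁻¹ := gext rfl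
  have h4 := key A⁻¹ (by rw [h3]; exact inv_mem hA) _ h
  rw [map_inv] at h4
  have h5 : (π A)⁻¹ * (π A * t * (π A)⁻¹) * (π A)⁻¹⁻¹ = t := by group
  rwa [h5] at h4

/-- **(Q2), abstract.** -/
theorem q2 (h2 : (2 : K) ≠ 0) {T : Subgroup G}
    (t1 : ∀ A : SpecialLinearGroup (Fin 3) K, toG A ∈ Dg K → π A ∈ T)
    (t3 : ∀ t ∈ T, ∃ δ ∈ Dg K, ActA π t δ) {A₀ : SpecialLinearGroup (Fin 3) K} {n : G}
    (hn : n ∈ Subgroup.normalizer (T : Set G)) {M : GL (Fin 3) K} (hM : M ∈ Nm K)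
    (hact : ActA π n M ∨ ActT π n M)
    (hc : ∀ X, π A₀ * n * (π A₀ * n) * π X = π X * (π A₀ * n * (π A₀ * n))) :
    ∃ A, π A * (π A₀ * n) * (π A)⁻¹ ∈ Subgroup.normalizer (T : Set G) := by
  rcases hact with hact | hact
  · obtain ⟨A, E, hE, h⟩ := ((actA_pi A₀).mul hact).exists_diag hker h2 hc
    refine ⟨A, ?_⟩
    have h1 : π A * (π A₀ * n) * (π A)⁻¹ = π (A * A₀ * cjS M A⁻¹) * n := by
      rw [map_mul, map_mul, ← hact, map_inv]
      group
    have h3 : toG (A * A₀ * cjS M A⁻¹) ∈ Nm K := by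
      rw [h1] at h
      have h4 := act_eq hker (H := toG (A * A₀ * cjS M A⁻¹) * M) (H' := E) fun X => by
        rw [← (actA_pi _).mul hact X, ← h X]
      have h5 := mul_mem (Dg_le_Nm (mul_mem hE h4)) (inv_mem hM)
      rwa [mul_inv_cancel_left, mul_inv_cancel_right] at h5
    rw [h1]
    exact mul_mem (pi_mem_normalizer t1 t3 h3) hn
  · obtain ⟨A, E, hE, h⟩ := ((actA_pi A₀).mulT hact).exists_diag hker h2 hc
    refine ⟨A, ?_⟩
    have h1 : π A * (π A₀ * n) * (π A)⁻¹ = π (A * A₀ * cjS M (ti A⁻¹)) * n := by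
      rw [map_mul, map_mul, ← hact, map_inv]
      group
    have h3 : toG (A * A₀ * cjS M (ti A⁻¹)) ∈ Nm K := by
      rw [h1] at h
      have h4 := act_eq hker (H := toG (A * A₀ * cjS M (ti A⁻¹)) * M) (H' := E) fun X => by
        have h6 := (actA_pi (π := π) (A * A₀ * cjS M (ti A⁻¹))).mulT hact (ti X)
        have h7 := h (ti X)
        rw [ti_ti] at h6 h7
        rw [← h6, ← h7]
      have h5 := mul_mem (Dg_le_Nm (mul_mem hE h4)) (inv_mem hM)
      rwa [mul_inv_cancel_left, mul_inv_cancel_right] at h5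
    rw [h1]
    exact mul_mem (pi_mem_normalizer t1 t3 h3) hn

end Cfsg.Agent.H428.OT.Lin
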