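import Cfsg.Agent.H428.OT.Act2

/-!
# Monomial actions on the image of `SL₃(K)` (helper428), for S2539

`exists_mono` : `φ, ψ : SL₃(K) →* G`, kernel of `ψ` central, `φ (x_ij(u)) = ψ (x_{σi,σj}(κ_ij u))`: then `φ X = ψ (H X H⁻¹)`
with `H` a monomial matrix over `σ`.  `exists_act` : the same for an element permuting the root groups.
-/

set_option autoImplicit false

namespace Cfsg.Agent.H428.OT.Lin

open Matrix
open scoped commutatorElement

universe u v

variable {K : Type u} [Field K] {G : Type v} [Group G]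

/-- the root elements of `SL₃` -/
abbrev tv {i j : Fin 3} (hij : i ≠ j) (u : K) : SpecialLinearGroup (Fin 3) K := SpecialLinearGroup.transvection hij u

theorem tv_coe {i j : Fin 3} (hij : i ≠ j) (u : K) : ((tv hij u : SpecialLinearGroup (Fin 3) K) : Matrix (Fin 3) (Fin 3) K) =
    1 + single i j u := rfl

/-- root elements modulo the centre -/
theorem tv_inj_of_center {i j k l : Fin 3} (hij : i ≠ j) (hkl : k ≠ l) {u v : K}
    (h : tv hij u * (tv hkl v)⁻¹ ∈ Subgroup.center (SpecialLinearGroup (Fin 3) K)) (hu : u ≠ 0) :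
    i = k ∧ j = l ∧ u = v := by
  obtain ⟨r, -, hr⟩ := Matrix.SpecialLinearGroup.mem_center_iff.1 h
  have h1 : ((tv hij u : SpecialLinearGroup (Fin 3) K) : Matrix (Fin 3) (Fin 3) K) =
      scalar (Fin 3) r * ((tv hkl v : SpecialLinearGroup (Fin 3) K) : Matrix (Fin 3) (Fin 3) K) := by
    rw [hr, ← cmul, inv_mul_cancel_right]
  rw [tv_coe, tv_coe] at h1
  have h2 : r = 1 := by
    have h3 := congrFun (congrFun h1 i) i
    rw [scalar_apply, diagonal_mul, Matrix.add_apply, Matrix.add_apply, one_apply_eq,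
      single_apply_of_ne _ _ _ _ _ (fun h => hij h.2.symm),
      single_apply_of_ne _ _ _ _ _ (fun h => hkl (h.1.trans h.2.symm)), add_zero, mul_one] at h3
    exact h3.symm
  subst h2
  rw [map_one, one_mul, add_right_inj] at h1
  have h3 := congrFun (congrFun h1 i) j
  rw [single_apply_same, single_apply] at h3
  split_ifs at h3 with h4
  · exact ⟨h4.1.symm, h4.2.symm, h3⟩
  · exact absurd h3 hu

/-- the monomial matrix over `σ` -/
def mono (σ : Equiv.Perm (Fin 3)) (δ : Fin 3 → K) (hδ : ∀ i, δ i ≠ 0) : GL (Fin 3) K where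
  val := Matrix.of fun k l => if k = σ l then δ l else 0
  inv := Matrix.of fun k l => if l = σ k then (δ k)⁻¹ else 0
  val_inv := by
    ext k l
    rw [mul_apply, Finset.sum_eq_single (σ.symm k)]
    · rw [of_apply, of_apply, if_pos (σ.apply_symm_apply k).symm, σ.apply_symm_apply, one_apply]
      by_cases hkl : k = l
      · rw [if_pos hkl.symm, if_pos hkl, mul_inv_cancel₀ (hδ _)]
      · rw [if_neg (Ne.symm hkl), if_neg hkl, mul_zero]
    · intro m _ hm
      rw [of_apply, if_neg (fun h => hm (by rw [h, σ.symm_apply_apply])), zero_mul]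
    · intro h
      exact absurd (Finset.mem_univ _) h
  inv_val := by
    ext k l
    rw [mul_apply, Finset.sum_eq_single (σ k)]
    · rw [of_apply, of_apply, if_pos rfl, one_apply]
      by_cases hkl : k = l
      · rw [if_pos (congrArg σ hkl), if_pos hkl, hkl, inv_mul_cancel₀ (hδ _)]
      · rw [if_neg (fun h => hkl (σ.injective h)), if_neg hkl, mul_zero]
    · intro m _ hm
      rw [of_apply, if_neg hm, zero_mul]
    · intro h
      exact absurd (Finset.mem_univ _) h

theorem mono_coe (σ : Equiv.Perm (Fin 3)) (δ : Fin 3 → K) (hδ : ∀ i, δ i ≠ 0) (k l : Fin 3) :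
    (mono σ δ hδ : Matrix (Fin 3) (Fin 3) K) k l = if k = σ l then δ l else 0 := rfl

theorem mono_one_mem (δ : Fin 3 → K) (hδ : ∀ i, δ i ≠ 0) : mono 1 δ hδ ∈ Dg K := by
  refine ⟨δ, ?_⟩
  ext k l
  rw [mono_coe, diagonal_apply, Equiv.Perm.one_apply]
  by_cases hkl : k = l
  · rw [if_pos hkl, if_pos hkl, hkl]
  · rw [if_neg hkl, if_neg hkl]

theorem mono_mul_diagonal (σ : Equiv.Perm (Fin 3)) (δ : Fin 3 → K) (hδ : ∀ i, δ i ≠ 0) (e : Fin 3 → K) :
    (mono σ δ hδ : Matrix (Fin 3) (Fin 3) K) * diagonal e =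
      diagonal (fun i => e (σ.symm i)) * (mono σ δ hδ : Matrix (Fin 3) (Fin 3) K) := by
  ext k l
  rw [mul_diagonal, diagonal_mul, mono_coe]
  by_cases hkl : k = σ l
  · rw [if_pos hkl, hkl, σ.symm_apply_apply, mul_comm]
  · rw [if_neg hkl, zero_mul, mul_zero]

theorem mono_mem (σ : Equiv.Perm (Fin 3)) (δ : Fin 3 → K) (hδ : ∀ i, δ i ≠ 0) : mono σ δ hδ ∈ Nm K := by
  have hinv : ((mono σ δ hδ : GL (Fin 3) K) : Matrix (Fin 3) (Fin 3) K) *
      (((mono σ δ hδ)⁻¹ : GL (Fin 3) K) : Matrix (Fin 3) (Fin 3) K) = 1 := by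
    rw [← Units.val_mul, mul_inv_cancel, Units.val_one]
  have hinv' : (((mono σ δ hδ)⁻¹ : GL (Fin 3) K) : Matrix (Fin 3) (Fin 3) K) *
      ((mono σ δ hδ : GL (Fin 3) K) : Matrix (Fin 3) (Fin 3) K) = 1 := by
    rw [← Units.val_mul, inv_mul_cancel, Units.val_one]
  refine Subgroup.mem_normalizer_iff.2 fun H => ⟨?_, ?_⟩
  · rintro ⟨e, he⟩
    refine ⟨fun i => e (σ.symm i), ?_⟩
    rw [Units.val_mul, Units.val_mul, he, mono_mul_diagonal, mul_assoc, hinv, mul_one]
  · rintro ⟨e, he⟩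
    refine ⟨fun i => e (σ i), ?_⟩
    have h1 : (mono σ δ hδ : Matrix (Fin 3) (Fin 3) K) * (H : Matrix (Fin 3) (Fin 3) K) =
        mono σ δ hδ * diagonal (fun i => e (σ i)) := by
      rw [mono_mul_diagonal]
      simp only [σ.apply_symm_apply]
      rw [← he, Units.val_mul, Units.val_mul, mul_assoc _ _ (mono σ δ hδ : Matrix (Fin 3) (Fin 3) K), hinv', mul_one]
    have h2 := congrArg (fun X => (((mono σ δ hδ)⁻¹ : GL (Fin 3) K) : Matrix (Fin 3) (Fin 3) K) * X) h1
    simp only [← mul_assoc, hinv', one_mul] at h2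
    exact h2

theorem mono_tv (σ : Equiv.Perm (Fin 3)) (δ : Fin 3 → K) (hδ : ∀ i, δ i ≠ 0) {i j : Fin 3} (hij : i ≠ j) (u : K) :
    cjS (mono σ δ hδ) (tv hij u) = tv (σ.injective.ne hij) (δ i * (δ j)⁻¹ * u) := by
  have hinv : ((mono σ δ hδ : GL (Fin 3) K) : Matrix (Fin 3) (Fin 3) K) *
      (((mono σ δ hδ)⁻¹ : GL (Fin 3) K) : Matrix (Fin 3) (Fin 3) K) = 1 := by
    rw [← Units.val_mul, mul_inv_cancel, Units.val_one]
  apply slext
  rw [coe_cjS, tv_coe, tv_coe]
  have h1 : ((mono σ δ hδ : GL (Fin 3) K) : Matrix (Fin 3) (Fin 3) K) * (1 + single i j u) =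
      (1 + single (σ i) (σ j) (δ i * (δ j)⁻¹ * u)) * (mono σ δ hδ : Matrix (Fin 3) (Fin 3) K) := by
    rw [mul_add, add_mul, mul_one, one_mul]
    congr 1
    ext k l
    by_cases hl : l = j
    · subst hl
      by_cases hk : k = σ i
      · subst hk
        rw [mul_single_apply_same, single_mul_apply_same, mono_coe, mono_coe, if_pos rfl, if_pos rfl]
        have := hδ l
        field_simp
      · rw [mul_single_apply_same, single_mul_apply_of_ne _ _ _ _ _ hk, mono_coe, if_neg hk, zero_mul]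
    · by_cases hk : k = σ i
      · subst hk
        rw [mul_single_apply_of_ne _ _ _ _ _ hl, single_mul_apply_same, mono_coe,
          if_neg (fun h => hl (σ.injective h).symm), mul_zero]
      · rw [mul_single_apply_of_ne _ _ _ _ _ hl, single_mul_apply_of_ne _ _ _ _ _ hk]
  rw [h1, mul_assoc, hinv, mul_one]

theorem ne_one_of_ker {ψ : SpecialLinearGroup (Fin 3) K →* G}
    (hker : ψ.ker ≤ Subgroup.center (SpecialLinearGroup (Fin 3) K)) {i j k l : Fin 3} (hij : i ≠ j) (hkl : k ≠ l)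
    {u v : K} (h : ψ (tv hij u) = ψ (tv hkl v)) (hu : u ≠ 0) : i = k ∧ j = l ∧ u = v :=
  tv_inj_of_center hij hkl (hker (by rw [MonoidHom.mem_ker, map_mul, map_inv, h, mul_inv_cancel])) hu

/-- **a homomorphism which is monomial on the root elements is conjugation by a monomial matrix** -/
theorem exists_mono {φ ψ : SpecialLinearGroup (Fin 3) K →* G}
    (hker : ψ.ker ≤ Subgroup.center (SpecialLinearGroup (Fin 3) K)) (σ : Equiv.Perm (Fin 3)) (κ : Fin 3 → Fin 3 → K)
    (hκ : ∀ i j, i ≠ j → κ i j ≠ 0)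
    (h : ∀ (i j : Fin 3) (hij : i ≠ j) (u : K), φ (tv hij u) = ψ (tv (σ.injective.ne hij) (κ i j * u))) :
    ∃ (δ : Fin 3 → K) (hδ : ∀ i, δ i ≠ 0), ∀ X, φ X = ψ (cjS (mono σ δ hδ) X) := by
  have coc : ∀ i k j : Fin 3, i ≠ k → k ≠ j → i ≠ j → κ i j = κ i k * κ k j := by
    intro i k j hik hkj hij
    have h1 : φ (tv hij 1) = ψ (tv (σ.injective.ne hij) (κ i k * κ k j)) := by
      have h2 := LieClassical.SLGen.commutator_transvection hij hik hkj (1 : K) 1
      rw [mul_one] at h2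
      have h3 := LieClassical.SLGen.commutator_transvection (σ.injective.ne hij) (σ.injective.ne hik)
        (σ.injective.ne hkj) (κ i k) (κ k j)
      rw [tv, ← h2, map_commutatorElement]
      have h4 := h i k hik 1
      have h5 := h k j hkj 1
      rw [mul_one] at h4 h5
      rw [tv] at h4 h5
      rw [h4, h5, ← map_commutatorElement]
      exact congrArg ψ h3
    have h2 := h i j hij 1
    rw [h1, mul_one] at h2
    exact (ne_one_of_ker hker _ _ h2.symm (hκ i j hij)).2.2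
  have n10 := hκ 1 0 (by decide)
  have n20 := hκ 2 0 (by decide)
  have n12 := hκ 1 2 (by decide)
  have n21 := hκ 2 1 (by decide)
  have c1 : κ 1 2 = κ 1 0 * κ 0 2 := coc 1 0 2 (by decide) (by decide) (by decide)
  have c2 : κ 0 2 = κ 0 1 * κ 1 2 := coc 0 1 2 (by decide) (by decide) (by decide)
  have c3 : κ 2 1 = κ 2 0 * κ 0 1 := coc 2 0 1 (by decide) (by decide) (by decide)
  have c4 : κ 0 1 = κ 0 2 * κ 2 1 := coc 0 2 1 (by decide) (by decide) (by decide)
  have e01 : κ 0 1 = (κ 1 0)⁻¹ := by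
    refine eq_inv_of_mul_eq_one_right (mul_right_cancel₀ n12 ?_)
    rw [one_mul]
    linear_combination (-1 : K) * c1 - κ 1 0 * c2
  have e02 : κ 0 2 = (κ 2 0)⁻¹ := by
    refine eq_inv_of_mul_eq_one_right (mul_right_cancel₀ n21 ?_)
    rw [one_mul]
    linear_combination (-1 : K) * c3 - κ 2 0 * c4
  have hδ : ∀ i : Fin 3, (if i = 0 then (1 : K) else κ i 0) ≠ 0 := by
    intro i
    split_ifs with hi
    · exact one_ne_zero
    · exact hκ i 0 hi
  refine ⟨fun i => if i = 0 then 1 else κ i 0, hδ, ?_⟩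
  have hκδ : ∀ i j : Fin 3, i ≠ j →
      κ i j = (if i = 0 then (1 : K) else κ i 0) * (if j = 0 then (1 : K) else κ j 0)⁻¹ := by
    intro i j hij
    fin_cases i <;> fin_cases j
    · exact absurd rfl hij
    · simpa using e01
    · simpa using e02
    · simp
    · exact absurd rfl hij
    · show κ 1 2 = κ 1 0 * (κ 2 0)⁻¹
      rw [c1, e02]
    · simp
    · show κ 2 1 = κ 2 0 * (κ 1 0)⁻¹
      rw [c3, e01]
    · exact absurd rfl hij
  refine LieClassical.SLGen.transvection_induction (fun X => φ X = ψ (cjS (mono σ _ hδ) X)) ?_ ?_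
  · intro i j hij c
    have h1 := mono_tv σ _ hδ hij c
    rw [tv] at h1
    rw [h1, ← hκδ i j hij]
    exact h i j hij c
  · intro A B hA hB
    rw [map_mul, hA, hB, map_mul, map_mul]

theorem tv_congr {i j k l : Fin 3} (hij : i ≠ j) (hkl : k ≠ l) (h1 : i = k) (h2 : j = l) (u : K) :
    tv hij u = tv hkl u := by
  subst h1 h2
  rfl

theorem tv_zero {i j : Fin 3} (hij : i ≠ j) : (tv hij (0 : K)) = 1 := by
  apply slext
  rw [tv_coe, cone, single_zero, add_zero]

theorem ti_tv {i j : Fin 3} (hij : i ≠ j) (u : K) : ti (tv hij u) = tv hij.symm (-u) := by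
  apply slext
  rw [coe_ti, tv, Matrix.SpecialLinearGroup.transvection_inv]
  rw [← tv, tv_coe, tv_coe, transpose_add, transpose_one, transpose_single]

theorem comm_tv {i j k l : Fin 3} (hij : i ≠ j) (hkl : k ≠ l) (hjk : j ≠ k) (hil : i ≠ l) (u v : K) :
    ⁅tv hij u, tv hkl v⁆ = 1 := by
  rw [commutatorElement_eq_one_iff_mul_comm]
  apply LieClassical.SLGen.smul_ext
  intro w
  rw [mul_smul, mul_smul]
  simp only [tv, LieClassical.SLGen.transvection_smul]
  ext m
  simp [hjk, Ne.symm hil]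
  ring

/-- the permutation of `Fin 3` with three given values -/
theorem exists_perm {p q r : Fin 3} (hpq : p ≠ q) (hqr : q ≠ r) (hpr : p ≠ r) :
    ∃ σ : Equiv.Perm (Fin 3), σ 0 = p ∧ σ 1 = q ∧ σ 2 = r := by
  revert p q r
  decide

/-- **an element permuting the root groups acts as a monomial matrix, possibly after inverse transpose** -/
theorem exists_act {π : SpecialLinearGroup (Fin 3) K →* G}
    (hker : π.ker ≤ Subgroup.center (SpecialLinearGroup (Fin 3) K)) {g : G} (τ₁ τ₂ : Fin 3 → Fin 3 → Fin 3)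
    (κ : Fin 3 → Fin 3 → K) (hτ : ∀ i j, i ≠ j → τ₁ i j ≠ τ₂ i j)
    (hs : ∀ i j, i ≠ j → τ₁ j i = τ₂ i j ∧ τ₂ j i = τ₁ i j) (hκ : ∀ i j, i ≠ j → κ i j ≠ 0)
    (h : ∀ (i j : Fin 3) (hij : i ≠ j) (u : K), g * π (tv hij u) * g⁻¹ = π (tv (hτ i j hij) (κ i j * u))) :
    ∃ M ∈ Nm K, ActA π g M ∨ ActT π g M := by
  have hinj : ∀ {x y : G}, g * x * g⁻¹ = g * y * g⁻¹ → x = y := fun {x y} e =>
    mul_left_cancel (mul_right_cancel e)
  have hcomm : ⁅π (tv (hτ 0 1 (by decide)) (κ 0 1)), π (tv (hτ 1 2 (by decide)) (κ 1 2))⁆ =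
      π (tv (hτ 0 2 (by decide)) (κ 0 2)) := by
    have h1 := h 0 1 (by decide) 1
    have h2 := h 1 2 (by decide) 1
    have h3 := h 0 2 (by decide) 1
    rw [mul_one] at h1 h2 h3
    rw [← h1, ← h2, ← h3]
    have h4 := LieClassical.SLGen.commutator_transvection (i := (0 : Fin 3)) (k := 1) (j := 2) (by decide) (by decide)
      (by decide) (1 : K) 1
    rw [mul_one] at h4
    rw [tv, tv, tv, ← h4, map_commutatorElement, commutatorElement_def, commutatorElement_def]
    group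
  by_cases hqr : τ₂ 0 1 = τ₁ 1 2
  · have hps : τ₁ 0 1 ≠ τ₂ 1 2 := by
      intro hps
      have h1 := h 1 2 (by decide) (κ 1 0 * (κ 1 2)⁻¹)
      have h2 := h 1 0 (by decide) 1
      have h3 : κ 1 2 * (κ 1 0 * (κ 1 2)⁻¹) = κ 1 0 * 1 := by
        have := hκ 1 2 (by decide)
        field_simp
      rw [h3, tv_congr (hτ 1 2 (by decide)) (hτ 1 0 (by decide)) (by rw [← hqr, (hs 0 1 (by decide)).1])
        (by rw [← hps, (hs 0 1 (by decide)).2]), ← h2] at h1
      have h4 := ne_one_of_ker hker (by decide) (by decide) (hinj h1)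
        (mul_ne_zero (hκ 1 0 (by decide)) (inv_ne_zero (hκ 1 2 (by decide))))
      exact absurd h4.2.1 (by decide)
    have h1 : π (tv (hτ 0 2 (by decide)) (κ 0 2)) = π (tv hps (κ 0 1 * κ 1 2)) := by
      rw [← hcomm, tv_congr (hτ 0 1 (by decide)) (k := τ₁ 0 1) (l := τ₁ 1 2)
        (fun h => hτ 0 1 (by decide) (h.trans hqr.symm)) rfl hqr, ← map_commutatorElement]
      exact congrArg π (LieClassical.SLGen.commutator_transvection hps _ _ _ _)
    obtain ⟨e1, e2, -⟩ := ne_one_of_ker hker _ _ h1 (hκ 0 2 (by decide))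
    obtain ⟨σ, s0, s1, s2⟩ := exists_perm (hτ 0 1 (by decide)) (r := τ₂ 1 2)
      (fun h => hτ 1 2 (by decide) (hqr.symm.trans h)) hps
    have hσ : ∀ i j : Fin 3, i ≠ j → τ₁ i j = σ i ∧ τ₂ i j = σ j := by
      intro i j hij
      fin_cases i <;> fin_cases j
      · exact absurd rfl hij
      · exact ⟨s0.symm, s1.symm⟩
      · exact ⟨e1.trans s0.symm, e2.trans s2.symm⟩
      · exact ⟨(hs 0 1 (by decide)).1.trans s1.symm, (hs 0 1 (by decide)).2.trans s0.symm⟩
      · exact absurd rfl hij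
      · exact ⟨hqr.symm.trans s1.symm, s2.symm⟩
      · exact ⟨((hs 0 2 (by decide)).1.trans e2).trans s2.symm, ((hs 0 2 (by decide)).2.trans e1).trans s0.symm⟩
      · exact ⟨(hs 1 2 (by decide)).1.trans s2.symm, ((hs 1 2 (by decide)).2.trans hqr.symm).trans s1.symm⟩
      · exact absurd rfl hij
    obtain ⟨δ, hδ, hX⟩ := exists_mono (φ := (MulAut.conj g).toMonoidHom.comp π) hker σ κ hκ fun i j hij u => by
      show g * π (tv hij u) * g⁻¹ = _
      rw [h i j hij u]
      exact congrArg π (tv_congr _ _ (hσ i j hij).1 (hσ i j hij).2 _)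
    exact ⟨_, mono_mem σ δ hδ, Or.inl hX⟩
  · by_cases hps : τ₁ 0 1 = τ₂ 1 2
    · have h1 : π (tv (hτ 0 2 (by decide)) (κ 0 2)) = π (tv (Ne.symm hqr) (-(κ 1 2 * κ 0 1))) := by
        rw [← hcomm, tv_congr (hτ 1 2 (by decide)) (k := τ₁ 1 2) (l := τ₁ 0 1)
          (fun h => hτ 1 2 (by decide) (h.trans hps)) rfl hps.symm, ← map_commutatorElement]
        refine congrArg π ?_
        rw [← commutatorElement_inv]
        have h2 := LieClassical.SLGen.commutator_transvection (Ne.symm hqr)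
          (fun h : τ₁ 1 2 = τ₁ 0 1 => hτ 1 2 (by decide) (h.trans hps)) (hτ 0 1 (by decide)) (κ 1 2) (κ 0 1)
        rw [tv, tv, h2, Matrix.SpecialLinearGroup.transvection_inv]
      obtain ⟨e1, e2, -⟩ := ne_one_of_ker hker _ _ h1 (hκ 0 2 (by decide))
      obtain ⟨σ, s0, s1, s2⟩ := exists_perm (hτ 0 1 (by decide)).symm (r := τ₁ 1 2)
        (fun h => hτ 1 2 (by decide) (h.symm.trans hps)) hqr
      have hσ : ∀ i j : Fin 3, i ≠ j → τ₁ i j = σ j ∧ τ₂ i j = σ i := by
        intro i j hij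
        fin_cases i <;> fin_cases j
        · exact absurd rfl hij
        · exact ⟨s1.symm, s0.symm⟩
        · exact ⟨e1.trans s2.symm, e2.trans s0.symm⟩
        · exact ⟨(hs 0 1 (by decide)).1.trans s0.symm, (hs 0 1 (by decide)).2.trans s1.symm⟩
        · exact absurd rfl hij
        · exact ⟨s2.symm, hps.symm.trans s1.symm⟩
        · exact ⟨((hs 0 2 (by decide)).1.trans e2).trans s0.symm, ((hs 0 2 (by decide)).2.trans e1).trans s2.symm⟩
        · exact ⟨((hs 1 2 (by decide)).1.trans hps.symm).trans s1.symm, (hs 1 2 (by decide)).2.trans s2.symm⟩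
        · exact absurd rfl hij
      obtain ⟨δ, hδ, hX⟩ := exists_mono (φ := ((MulAut.conj g).toMonoidHom.comp π).comp ti) hker σ
        (fun i j => -κ j i) (fun i j hij => neg_ne_zero.2 (hκ j i hij.symm)) fun i j hij u => by
        show g * π (ti (tv hij u)) * g⁻¹ = _
        rw [ti_tv, h j i hij.symm (-u)]
        refine congrArg π ?_
        rw [tv_congr _ (σ.injective.ne hij) (hσ j i hij.symm).1 (hσ j i hij.symm).2, mul_neg, neg_mul]
      refine ⟨_, mono_mem σ δ hδ, Or.inr fun X => ?_⟩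
      have h2 := hX (ti X)
      rw [← h2]
      show _ = g * π (ti (ti X)) * g⁻¹
      rw [ti_ti]
    · exfalso
      rw [← map_commutatorElement, comm_tv _ _ hqr hps, map_one] at hcomm
      have h1 : π (tv (hτ 0 2 (by decide)) (κ 0 2)) = π (tv (hτ 0 2 (by decide)).symm 0) := by
        rw [← hcomm, tv_zero, map_one]
      exact hτ 0 2 (by decide) (ne_one_of_ker hker _ _ h1 (hκ 0 2 (by decide))).1

end Cfsg.Agent.H428.OT.Lin
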