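import Mathlib

/-!
# Linear algebra for the short `A₂` of `F₄` (helper428), for S2539

* `exists_diag_of_invol` : `H * H = 1`, `2 ≠ 0`: `B * H * B⁻¹` is diagonal for some `B ∈ SL₃(K)`;
* `exists_diag_of_symm` : `Hᵀ = H`, `2 ≠ 0`: `B * H * Bᵀ` is diagonal for some `B ∈ SL₃(K)`;
* `det_eq_zero_of_skew`.
-/

set_option autoImplicit false

namespace Cfsg.Agent.H428.OT.Lin

open Matrix

universe u

variable {K : Type u} [Field K]

theorem det_eq_zero_of_skew (h2 : (2 : K) ≠ 0) {H : Matrix (Fin 3) (Fin 3) K} (h : Hᵀ = -H) : H.det = 0 := by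
  have h1 : H.det = -H.det := by
    conv_lhs => rw [← det_transpose, h, det_neg]
    simp [Fintype.card_fin]
    ring
  have h3 : (2 : K) * H.det = 0 := by linear_combination h1
  exact (mul_eq_zero.1 h3).resolve_left h2

/-- correction of the determinant -/
theorem exists_sl {B : Matrix (Fin 3) (Fin 3) K} (hB : B.det ≠ 0) :
    ∃ C : SpecialLinearGroup (Fin 3) K, ∃ d : Fin 3 → K, (∀ i, d i ≠ 0) ∧
      (C : Matrix (Fin 3) (Fin 3) K) = diagonal d * B := by
  refine ⟨⟨diagonal ![(B.det)⁻¹, 1, 1] * B, ?_⟩, ![(B.det)⁻¹, 1, 1], ?_, rfl⟩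
  · rw [det_mul, det_diagonal, Fin.prod_univ_three]
    simp [inv_mul_cancel₀ hB]
  · intro i
    fin_cases i
    · exact inv_ne_zero hB
    · exact one_ne_zero
    · exact one_ne_zero

/-- **Diagonalisation of involutions** -/
theorem exists_diag_of_invol (h2 : (2 : K) ≠ 0) {H : Matrix (Fin 3) (Fin 3) K} (hH : H * H = 1) :
    ∃ (B : SpecialLinearGroup (Fin 3) K) (e : Fin 3 → K), (B : Matrix (Fin 3) (Fin 3) K) * H = diagonal e * B := by
  classical
  set f : (Fin 3 → K) →ₗ[K] (Fin 3 → K) := toLin' H with hf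
  have hff : ∀ x, f (f x) = x := by
    intro x
    rw [hf, toLin'_apply, toLin'_apply, mulVec_mulVec, hH, one_mulVec]
  set P : Submodule K (Fin 3 → K) := LinearMap.ker (f - LinearMap.id) with hP
  set Q : Submodule K (Fin 3 → K) := LinearMap.ker (f + LinearMap.id) with hQ
  have mP : ∀ x, x ∈ P ↔ f x = x := by
    intro x
    rw [hP, LinearMap.mem_ker, LinearMap.sub_apply, LinearMap.id_apply, sub_eq_zero]
  have mQ : ∀ x, x ∈ Q ↔ f x = -x := by
    intro x
    rw [hQ, LinearMap.mem_ker, LinearMap.add_apply, LinearMap.id_apply, add_eq_zero_iff_eq_neg]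
  have hc : IsCompl P Q := by
    constructor
    · rw [Submodule.disjoint_def]
      intro x hx hx'
      rw [mP] at hx
      rw [mQ] at hx'
      have h3 : (2 : K) • x = 0 := by
        rw [two_smul]
        nth_rewrite 1 [← hx]
        rw [hx', neg_add_cancel]
      exact (smul_eq_zero.1 h3).resolve_left h2
    · rw [codisjoint_iff, eq_top_iff]
      intro x _
      rw [Submodule.mem_sup]
      refine ⟨(2 : K)⁻¹ • (x + f x), ?_, (2 : K)⁻¹ • (x - f x), ?_, ?_⟩
      · rw [mP, map_smul, map_add, hff, add_comm]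
      · rw [mQ, map_smul, map_sub, hff, ← smul_neg, neg_sub]
      · rw [← smul_add]
        have : x + f x + (x - f x) = (2 : K) • x := by rw [two_smul]; abel
        rw [this, smul_smul, inv_mul_cancel₀ h2, one_smul]
  let bP := Module.finBasis K P
  let bQ := Module.finBasis K Q
  let b0 := (bP.prod bQ).map (Submodule.prodEquivOfIsCompl P Q hc)
  have hcard : Fintype.card (Fin (Module.finrank K P) ⊕ Fin (Module.finrank K Q)) = Fintype.card (Fin 3) := by
    have h3 := Module.finrank_eq_card_basis b0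
    rw [Module.finrank_fin_fun] at h3
    rw [← h3, Fintype.card_fin]
  let e0 := Fintype.equivOfCardEq hcard
  let b := b0.reindex e0
  have key : ∀ i, ∃ c : K, f (b i) = c • b i := by
    intro i
    have hb : b i = b0 (e0.symm i) := Module.Basis.reindex_apply _ _ _
    rcases h : e0.symm i with j | j
    · refine ⟨1, ?_⟩
      have h3 : b i = (bP j : Fin 3 → K) := by
        rw [hb, h]
        simp [b0, Submodule.coe_prodEquivOfIsCompl']
      rw [h3, one_smul]
      exact (mP _).1 (bP j).2
    · refine ⟨-1, ?_⟩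
      have h3 : b i = (bQ j : Fin 3 → K) := by
        rw [hb, h]
        simp [b0, Submodule.coe_prodEquivOfIsCompl']
      rw [h3, neg_one_smul]
      exact (mQ _).1 (bQ j).2
  choose c hc' using key
  -- the matrix of the basis
  let M : Matrix (Fin 3) (Fin 3) K := (Pi.basisFun K (Fin 3)).toMatrix b
  let N : Matrix (Fin 3) (Fin 3) K := b.toMatrix (Pi.basisFun K (Fin 3))
  have hMN : N * M = 1 := Module.Basis.toMatrix_mul_toMatrix_flip b (Pi.basisFun K (Fin 3))
  have hMN' : M * N = 1 := Module.Basis.toMatrix_mul_toMatrix_flip (Pi.basisFun K (Fin 3)) b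
  have hHM : H * M = M * diagonal c := by
    ext i j
    have h3 := congrFun (hc' j) i
    rw [hf, toLin'_apply] at h3
    have hM : ∀ k l, M k l = b l k := fun k l => by
      simp [M, Module.Basis.toMatrix_apply]
    rw [mul_diagonal, mul_apply, hM]
    simp only [hM]
    rw [Pi.smul_apply, smul_eq_mul] at h3
    rw [mul_comm, ← h3]
    rfl
  have hNH : N * H = diagonal c * N := by
    calc N * H = N * (H * (M * N)) := by rw [hMN', mul_one]
      _ = N * ((H * M) * N) := by rw [mul_assoc H]
      _ = N * (M * diagonal c * N) := by rw [hHM]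
      _ = (N * M) * (diagonal c * N) := by simp only [mul_assoc]
      _ = diagonal c * N := by rw [hMN, one_mul]
  have hdet : N.det ≠ 0 := by
    intro h0
    have := congrArg det hMN
    rw [det_mul, h0, zero_mul, det_one] at this
    exact zero_ne_one this
  obtain ⟨B, d, hd, hB⟩ := exists_sl hdet
  refine ⟨B, c, ?_⟩
  rw [hB, mul_assoc, hNH, ← mul_assoc, ← mul_assoc]
  congr 1
  rw [diagonal_mul_diagonal, diagonal_mul_diagonal]
  congr 1
  funext i
  exact mul_comm _ _

/-- **Diagonalisation of symmetric matrices** -/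
theorem exists_diag_of_symm (h2 : (2 : K) ≠ 0) {H : Matrix (Fin 3) (Fin 3) K} (hH : Hᵀ = H) :
    ∃ (B : SpecialLinearGroup (Fin 3) K) (e : Fin 3 → K),
      (B : Matrix (Fin 3) (Fin 3) K) * H * (B : Matrix (Fin 3) (Fin 3) K)ᵀ = diagonal e := by
  classical
  have : Invertible (2 : K) := invertibleOfNonzero h2
  let β : LinearMap.BilinForm K (Fin 3 → K) := Matrix.toBilin' H
  have hsym : LinearMap.IsSymm β := by
    refine ⟨fun x y => ?_⟩
    show Matrix.toBilin' H x y = Matrix.toBilin' H y x
    rw [Matrix.toBilin'_apply', Matrix.toBilin'_apply', dotProduct_comm, ← Matrix.vecMul_transpose, hH,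
      ← Matrix.dotProduct_mulVec]
  obtain ⟨v0, hv0⟩ := LinearMap.BilinForm.exists_orthogonal_basis hsym
  have hcard : Module.finrank K (Fin 3 → K) = 3 := Module.finrank_fin_fun K
  let v := v0.reindex (finCongr hcard)
  have hv : ∀ i j, i ≠ j → v i ⬝ᵥ (H *ᵥ v j) = 0 := by
    intro i j hij
    rw [← Matrix.toBilin'_apply']
    have h3 := LinearMap.isOrthoᵢ_def.1 hv0 ((finCongr hcard).symm i) ((finCongr hcard).symm j)
      (fun h => hij ((finCongr hcard).symm.injective h))
    rw [Module.Basis.reindex_apply, Module.Basis.reindex_apply]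
    exact h3
  let M : Matrix (Fin 3) (Fin 3) K := (Pi.basisFun K (Fin 3)).toMatrix v
  let N : Matrix (Fin 3) (Fin 3) K := v.toMatrix (Pi.basisFun K (Fin 3))
  have hMN : N * M = 1 := Module.Basis.toMatrix_mul_toMatrix_flip v (Pi.basisFun K (Fin 3))
  have hM : ∀ k l, M k l = v l k := fun k l => by
    simp [M, Module.Basis.toMatrix_apply]
  have hdet : Mᵀ.det ≠ 0 := by
    rw [det_transpose]
    intro h0
    have := congrArg det hMN
    rw [det_mul, h0, mul_zero, det_one] at this
    exact zero_ne_one this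
  have hD : Mᵀ * H * M = diagonal fun i => v i ⬝ᵥ (H *ᵥ v i) := by
    ext i j
    have h3 : (Mᵀ * H * M) i j = v i ⬝ᵥ (H *ᵥ v j) := by
      rw [mul_assoc, mul_apply, dotProduct]
      refine Finset.sum_congr rfl fun k _ => ?_
      rw [transpose_apply, hM, mul_apply, mulVec, dotProduct]
      simp only [hM]
    rw [h3]
    by_cases hij : i = j
    · rw [hij, diagonal_apply_eq]
    · rw [diagonal_apply_ne _ hij, hv i j hij]
  obtain ⟨B, d, hd, hB⟩ := exists_sl hdet
  refine ⟨B, fun i => d i * (v i ⬝ᵥ (H *ᵥ v i)) * d i, ?_⟩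
  have h4 : (B : Matrix (Fin 3) (Fin 3) K) * H * (B : Matrix (Fin 3) (Fin 3) K)ᵀ =
      diagonal d * (Mᵀ * H * M) * diagonal d := by
    rw [hB, transpose_mul, transpose_transpose, diagonal_transpose]
    simp only [mul_assoc]
  rw [h4, hD, diagonal_mul_diagonal, diagonal_mul_diagonal]

end Cfsg.Agent.H428.OT.Lin
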